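/-
Normal subgroups with two class sizes of the whole group, containing a Sylow subgroup: the basic
facts on the abelian centralizers of mixed elements.
-/
import Mathlib
import Cfsg.Agent.Lib.ClassSizes.TwoSizes

set_option autoImplicit false
set_option linter.all false

namespace CfsgLib.ClassSizes.TwoSizesNormal

open Subgroup CfsgLib.ClassSizes.TwoSizes

variable {G : Type*} [Group G] [Finite G]

/-- `A` is the centralizer in `N` of a noncentral element of order prime to `r` and of a noncentral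
`r`-element. -/
def Mix (N : Subgroup G) (r : ℕ) (A : Subgroup G) : Prop :=
  ∃ k x : G, k ∈ N ∧ k ∉ center G ∧ (orderOf k).Coprime r ∧ x ∈ N ∧ x ∉ center G ∧
    (∃ i : ℕ, orderOf x = r ^ i) ∧ centralizer ({k} : Set G) = centralizer ({x} : Set G) ∧
    A = N ⊓ centralizer ({k} : Set G)

/-- The standing hypotheses, in the case where the centre of the Sylow subgroup is central. -/
structure Ctx (N : Subgroup G) {r : ℕ} (R : Sylow r G) (m : ℕ) : Prop where
  normal : N.Normal
  le : (R : Subgroup G) ≤ N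
  nc : ¬ (R : Subgroup G) ≤ center G
  sizes : ∀ x ∈ N, x ∉ center G → (centralizer ({x} : Set G)).index = m
  cen : ∀ z ∈ (R : Subgroup G), (∀ u ∈ (R : Subgroup G), Commute u z) → z ∈ center G

section Sizes

variable {N : Subgroup G} {m : ℕ}
variable (hs : ∀ x ∈ N, x ∉ center G → (centralizer ({x} : Set G)).index = m)

include hs

theorem centralizer_eq' {x y : G} (hxN : x ∈ N) (hx : x ∉ center G) (hyN : y ∈ N) (hy : y ∉ center G)
    (hle : centralizer ({x} : Set G) ≤ centralizer ({y} : Set G)) :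
    centralizer ({x} : Set G) = centralizer ({y} : Set G) := by
  refine eq_of_le_of_card_ge hle (le_of_eq ?_)
  have h1 := (centralizer ({x} : Set G)).index_mul_card
  have h2 := (centralizer ({y} : Set G)).index_mul_card
  rw [hs x hxN hx, ← h2, hs y hyN hy] at h1
  refine (Nat.eq_of_mul_eq_mul_left (Nat.pos_of_ne_zero ?_) h1).symm
  rw [← hs x hxN hx]
  exact index_ne_zero_of_finite

theorem commute_coprime' {x y : G} (hxN : x ∈ N) (hx : x ∉ center G) (hyN : y ∈ N) (hy : y ∉ center G)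
    (hc : Commute x y) (hco : (orderOf x).Coprime (orderOf y)) :
    centralizer ({x} : Set G) = centralizer ({y} : Set G) := by
  have hmem : ∀ {s t : G}, Commute s t → (orderOf t).Coprime (orderOf s) → s ∈ zpowers (s * t) := by
    intro s t hst hco
    obtain ⟨i, hi⟩ := exists_pow_eq_self_of_coprime hco
    have e : s = (s * t) ^ (orderOf t * i) := by
      rw [pow_mul, hst.mul_pow, pow_orderOf_eq_one, mul_one, hi]
    have := Subgroup.npow_mem_zpowers (s * t) (orderOf t * i)
    rwa [← e] at this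
  have h1 := centralizer_le_of_mem (hmem hc hco.symm)
  have h2 := centralizer_le_of_mem (hmem hc.symm hco)
  rw [← hc.eq] at h2
  have hxy : x * y ∉ center G := fun hcen => hx ((zpowers_le.2 hcen) (hmem hc hco.symm))
  have hxyN : x * y ∈ N := mul_mem hxN hyN
  rw [← centralizer_eq' hs hxyN hxy hxN hx h1, centralizer_eq' hs hxyN hxy hyN hy h2]

end Sizes

omit [Finite G] in
theorem centralizer_conj (g x : G) :
    centralizer ({g * x * g⁻¹} : Set G) =
      (centralizer ({x} : Set G)).map (MulAut.conj g).toMonoidHom := by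
  ext a
  rw [mem_map_equiv, mem_centralizer_singleton_iff, mem_centralizer_singleton_iff]
  simp only [MulAut.conj_symm_apply]
  constructor
  · intro h
    calc g⁻¹ * a * g * x = g⁻¹ * (a * (g * x * g⁻¹)) * g := by group
      _ = x * (g⁻¹ * a * g) := by rw [h]; group
  · intro h
    calc a * (g * x * g⁻¹) = g * (g⁻¹ * a * g * x) * g⁻¹ := by group
      _ = g * x * g⁻¹ * a := by rw [h]; group

omit [Finite G] in
theorem conj_mem_center_iff {g x : G} : g * x * g⁻¹ ∈ center G ↔ x ∈ center G := by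
  constructor
  · intro h
    have := (inferInstance : (center G).Normal).conj_mem _ h g⁻¹
    rwa [inv_inv, show g⁻¹ * (g * x * g⁻¹) * g = x by group] at this
  · intro h
    exact (inferInstance : (center G).Normal).conj_mem _ h g

omit [Finite G] in
theorem orderOf_conj (g x : G) : orderOf (g * x * g⁻¹) = orderOf x := by
  rw [← MulAut.conj_apply, MulEquiv.orderOf_eq]

variable {N : Subgroup G} {r : ℕ} [hr : Fact r.Prime] {R : Sylow r G} {m : ℕ}

omit hr in
theorem Mix.le {A : Subgroup G} (hA : Mix N r A) : A ≤ N := by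
  obtain ⟨k, x, -, -, -, -, -, -, -, rfl⟩ := hA
  exact inf_le_left

omit hr in
theorem Mix.center_le {A : Subgroup G} (hA : Mix N r A) : N ⊓ center G ≤ A := by
  obtain ⟨k, x, -, -, -, -, -, -, -, rfl⟩ := hA
  exact fun z hz => ⟨hz.1, mem_centralizer_singleton_iff.2 (Subgroup.mem_center_iff.1 hz.2 k).symm⟩

omit hr in
theorem Mix.exists_rElem {A : Subgroup G} (hA : Mix N r A) :
    ∃ x ∈ A, x ∉ center G ∧ ∃ i : ℕ, orderOf x = r ^ i := by
  obtain ⟨k, x, -, -, -, hxN, hx, hi, hC, rfl⟩ := hA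
  exact ⟨x, ⟨hxN, hC ▸ mem_centralizer_singleton_iff.2 rfl⟩, hx, hi⟩

omit hr in
theorem Mix.conj (hN : N.Normal) {A : Subgroup G} (hA : Mix N r A) (g : G) :
    Mix N r (A.map (MulAut.conj g).toMonoidHom) := by
  obtain ⟨k, x, hkN, hk, hko, hxN, hx, ⟨i, hi⟩, hC, rfl⟩ := hA
  refine ⟨g * k * g⁻¹, g * x * g⁻¹, hN.conj_mem _ hkN g, fun h => hk (conj_mem_center_iff.1 h),
    by rwa [orderOf_conj], hN.conj_mem _ hxN g, fun h => hx (conj_mem_center_iff.1 h),
    ⟨i, by rwa [orderOf_conj]⟩, by rw [centralizer_conj, centralizer_conj, hC], ?_⟩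
  rw [map_inf _ _ _ (MulAut.conj g).injective, centralizer_conj]
  congr 1
  ext a
  rw [mem_map_equiv, MulAut.conj_symm_apply]
  constructor
  · intro h
    have := hN.conj_mem _ h g
    rwa [show g * (g⁻¹ * a * g) * g⁻¹ = a by group] at this
  · intro h
    have := hN.conj_mem _ h g⁻¹
    rwa [inv_inv] at this

namespace Ctx

variable (hc : Ctx N R m)

include hc

theorem exists_noncentral : ∃ x ∈ (R : Subgroup G), x ∉ center G := by
  by_contra h
  push Not at h
  exact hc.nc fun x hx => h x hx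

theorem mem_of_rElem {y : G} {i : ℕ} (hy : orderOf y = r ^ i) : y ∈ N := by
  obtain ⟨P, hP⟩ := (IsPGroup.of_card (p := r) (G := zpowers y) (n := i)
    (by rw [Nat.card_zpowers, hy])).exists_le_sylow
  obtain ⟨g, rfl⟩ := MulAction.exists_smul_eq G R P
  have hyP := hP (mem_zpowers y)
  rw [Sylow.coe_subgroup_smul] at hyP
  obtain ⟨w, hw, e⟩ := hyP
  rw [← e]
  exact hc.normal.conj_mem _ (hc.le hw) g

theorem dvd : r ∣ m := by
  obtain ⟨x, hxR, hx⟩ := hc.exists_noncentral
  rw [← hc.sizes x (hc.le hxR) hx]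
  by_contra hnd
  obtain ⟨S⟩ : Nonempty (Sylow r (centralizer ({x} : Set G))) := inferInstance
  set Sg := (S : Subgroup (centralizer ({x} : Set G))).map (centralizer ({x} : Set G)).subtype
  obtain ⟨P, hP⟩ := (S.isPGroup'.map (centralizer ({x} : Set G)).subtype).exists_le_sylow
  have hPle : (P : Subgroup G) ≤ centralizer ({x} : Set G) := by
    refine (eq_of_le_of_card_ge hP ?_).ge.trans (map_subtype_le _)
    rw [← Nat.card_congr (equivMapOfInjective (S : Subgroup (centralizer ({x} : Set G))) _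
      (subtype_injective _)).toEquiv, P.card_eq_multiplicity]
    refine Nat.le_of_dvd Nat.card_pos (S.pow_dvd_card_of_pow_dvd_card ?_)
    have hd := Nat.ordProj_dvd (Nat.card G) r
    rw [← (centralizer ({x} : Set G)).index_mul_card] at hd ⊢
    exact (((hr.out.coprime_iff_not_dvd).2 hnd).pow_left _).dvd_of_dvd_mul_left hd
  -- `x` lies in `P` and is central there
  obtain ⟨i, hi⟩ := IsPGroup.iff_orderOf.1 R.2 ⟨x, hxR⟩
  rw [Subgroup.orderOf_mk] at hi
  have hxP : x ∈ (P : Subgroup G) := by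
    have hpg : IsPGroup r ((P : Subgroup G) ⊔ zpowers x : Subgroup G) := by
      refine IsPGroup.to_sup_of_normal_right' P.isPGroup'
        (IsPGroup.of_card (by rw [Nat.card_zpowers, hi])) ?_
      intro a ha
      refine mem_normalizer_iff.2 fun b => ⟨fun hb => ?_, fun hb => ?_⟩
      · obtain ⟨j, rfl⟩ := mem_zpowers_iff.1 hb
        have : Commute a x := mem_centralizer_singleton_iff.1 (hPle ha)
        rw [(this.zpow_right j).eq, mul_inv_cancel_right]
        exact zpow_mem_zpowers x j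
      · obtain ⟨j, hj⟩ := mem_zpowers_iff.1 hb
        have : Commute a x := mem_centralizer_singleton_iff.1 (hPle ha)
        have hb' : b = a⁻¹ * x ^ j * a := by rw [hj]; group
        rw [hb', mul_assoc, (this.zpow_right j).symm.eq, inv_mul_cancel_left]
        exact zpow_mem_zpowers x j
    rw [← P.is_maximal' hpg le_sup_left]
    exact mem_sup_right (mem_zpowers x)
  obtain ⟨g, rfl⟩ := MulAction.exists_smul_eq G R P
  rw [Sylow.coe_subgroup_smul] at hxP
  obtain ⟨w, hw, e⟩ := hxP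
  have hwc : w ∈ center G := hc.cen w hw fun u hu => by
    have hu' : g * u * g⁻¹ ∈ centralizer ({x} : Set G) :=
      hPle (by rw [Sylow.coe_subgroup_smul]; exact ⟨u, hu, rfl⟩)
    rw [mem_centralizer_singleton_iff, ← show g * w * g⁻¹ = x from e] at hu'
    show u * w = w * u
    calc u * w = g⁻¹ * (g * u * g⁻¹ * (g * w * g⁻¹)) * g := by group
      _ = w * u := by rw [hu']; group
  exact hx (e ▸ conj_mem_center_iff.2 hwc)

theorem exists_rElem_commute {k : G} (hkN : k ∈ N) (hk : k ∉ center G) :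
    ∃ x ∈ N, x ∉ center G ∧ (∃ i : ℕ, orderOf x = r ^ i) ∧ Commute k x := by
  obtain ⟨x₀, hx₀R, hx₀⟩ := hc.exists_noncentral
  obtain ⟨S⟩ : Nonempty (Sylow r (centralizer ({k} : Set G))) := inferInstance
  set C := centralizer ({k} : Set G)
  by_contra hcon
  push Not at hcon
  set Sg := (S : Subgroup C).map C.subtype
  have hSc : Sg ≤ center G := by
    rintro _ ⟨s, hs, rfl⟩
    by_contra hsc
    obtain ⟨i, hi⟩ := IsPGroup.iff_orderOf.1 S.2 ⟨s, hs⟩
    rw [Subgroup.orderOf_mk, ← Subgroup.orderOf_coe] at hi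
    exact hcon (s : G) (hc.mem_of_rElem hi) hsc ⟨i, hi⟩ (mem_centralizer_singleton_iff.1 s.2).symm
  obtain ⟨i₀, hi₀⟩ := IsPGroup.iff_orderOf.1 R.2 ⟨x₀, hx₀R⟩
  rw [Subgroup.orderOf_mk] at hi₀
  have hT : IsPGroup r (Sg ⊔ zpowers x₀ : Subgroup G) := by
    refine IsPGroup.to_sup_of_normal_right' (S.isPGroup'.map _)
      (IsPGroup.of_card (by rw [Nat.card_zpowers, hi₀])) ?_
    intro s hs
    refine mem_normalizer_iff.2 fun a => ?_
    rw [← Subgroup.mem_center_iff.1 (hSc hs) a, mul_inv_cancel_right]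
  have hTle : Sg ⊔ zpowers x₀ ≤ centralizer ({x₀} : Set G) := sup_le
    (fun s hs => mem_centralizer_singleton_iff.2 (Subgroup.mem_center_iff.1 (hSc hs) x₀).symm)
    (zpowers_le.2 (mem_centralizer_singleton_iff.2 rfl))
  have hcard : Nat.card C = Nat.card (centralizer ({x₀} : Set G)) := by
    have h1 := C.index_mul_card
    have h2 := (centralizer ({x₀} : Set G)).index_mul_card
    rw [hc.sizes k hkN hk, ← h2, hc.sizes x₀ (hc.le hx₀R) hx₀] at h1
    refine Nat.eq_of_mul_eq_mul_left (Nat.pos_of_ne_zero ?_) h1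
    rw [← hc.sizes k hkN hk]
    exact index_ne_zero_of_finite
  obtain ⟨j, hj⟩ := IsPGroup.iff_card.1 hT
  have hd : r ^ j ∣ Nat.card C := by rw [hcard, ← hj]; exact card_dvd_of_le hTle
  have hle : Nat.card (Sg ⊔ zpowers x₀ : Subgroup G) ≤ Nat.card Sg := by
    rw [← Nat.card_congr (equivMapOfInjective (S : Subgroup C) _ (subtype_injective _)).toEquiv, hj]
    exact Nat.le_of_dvd Nat.card_pos (S.pow_dvd_card_of_pow_dvd_card hd)
  exact hx₀ (hSc ((eq_of_le_of_card_ge le_sup_left hle).ge (mem_sup_right (mem_zpowers x₀))))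

theorem mix_of_commute {k x : G} (hkN : k ∈ N) (hk : k ∉ center G) (hko : (orderOf k).Coprime r)
    (hxN : x ∈ N) (hx : x ∉ center G) {i : ℕ} (hi : orderOf x = r ^ i) (hkx : Commute k x) :
    Mix N r (N ⊓ centralizer ({k} : Set G)) ∧
      centralizer ({k} : Set G) = centralizer ({x} : Set G) := by
  have := commute_coprime' hc.sizes hkN hk hxN hx hkx (by rw [hi]; exact hko.pow_right i)
  exact ⟨⟨k, x, hkN, hk, hko, hxN, hx, ⟨i, hi⟩, this, rfl⟩, this⟩

theorem mix_of_coprime {k : G} (hkN : k ∈ N) (hk : k ∉ center G) (hko : (orderOf k).Coprime r) :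
    Mix N r (N ⊓ centralizer ({k} : Set G)) := by
  obtain ⟨x, hxN, hx, ⟨i, hi⟩, hkx⟩ := hc.exists_rElem_commute hkN hk
  exact (hc.mix_of_commute hkN hk hko hxN hx hi hkx).1

/-- Inside a mixed subgroup all noncentral elements have the same centralizer. -/
theorem mix_spec {A : Subgroup G} (hA : Mix N r A) :
    ∃ C : Subgroup G, A = N ⊓ C ∧ ∀ y ∈ A, y ∉ center G → centralizer ({y} : Set G) = C := by
  obtain ⟨k, x, hkN, hk, hko, hxN, hx, ⟨i, hi⟩, hC, rfl⟩ := hA
  refine ⟨_, rfl, fun y hy hyc => ?_⟩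
  have hprim : ∃ w ∈ zpowers y, w ∉ center G ∧ ∃ q j : ℕ, q.Prime ∧ orderOf w = q ^ j := by
    by_contra hcon
    push Not at hcon
    exact hyc (mem_of_primary _ y fun w hw q j hq hj => by
      by_contra hwc
      exact hcon w hw hwc q j hq hj)
  obtain ⟨w, hw, hwc, q, j, hq, hj⟩ := hprim
  have hwA : w ∈ N ⊓ centralizer ({k} : Set G) := (zpowers_le.2 hy) hw
  have hwC : centralizer ({w} : Set G) = centralizer ({k} : Set G) := by
    by_cases hqr : q = r
    · subst hqr
      exact commute_coprime' hc.sizes hwA.1 hwc hkN hk (mem_centralizer_singleton_iff.1 hwA.2)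
        (by rw [hj]; exact hko.symm.pow_left j)
    · have hwx : Commute w x := mem_centralizer_singleton_iff.1 (hC ▸ hwA.2)
      rw [hC]
      exact commute_coprime' hc.sizes hwA.1 hwc hxN hx hwx
        (by rw [hj, hi]; exact ((Nat.coprime_primes hq hr.out).2 hqr).pow j i)
  rw [← hwC]
  exact centralizer_eq' hc.sizes hy.1 hyc hwA.1 hwc (centralizer_le_of_mem hw)

theorem mix_eq {A : Subgroup G} (hA : Mix N r A) {y : G} (hy : y ∈ A) (hyc : y ∉ center G) :
    A = N ⊓ centralizer ({y} : Set G) := by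
  obtain ⟨C, hAC, hall⟩ := hc.mix_spec hA
  rw [hall y hy hyc]; exact hAC

theorem mix_unique {A B : Subgroup G} (hA : Mix N r A) (hB : Mix N r B) {y : G} (hyA : y ∈ A)
    (hyB : y ∈ B) (hyc : y ∉ center G) : A = B :=
  (hc.mix_eq hA hyA hyc).trans (hc.mix_eq hB hyB hyc).symm

theorem mix_commute {A : Subgroup G} (hA : Mix N r A) {a b : G} (ha : a ∈ A) (hb : b ∈ A) :
    Commute a b := by
  by_cases hbc : b ∈ center G
  · exact Subgroup.mem_center_iff.1 hbc a
  · have h := hc.mix_eq hA hb hbc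
    exact mem_centralizer_singleton_iff.1 (h.le ha).2

theorem mix_mem_normalizer {A : Subgroup G} (hA : Mix N r A) {g w : G} (hw : w ∈ A)
    (hwc : w ∉ center G) (hgw : g * w * g⁻¹ ∈ A) : g ∈ normalizer (A : Set G) := by
  have e : A.map (MulAut.conj g).toMonoidHom = A :=
    hc.mix_unique (hA.conj hc.normal g) hA ⟨w, hw, rfl⟩ hgw fun h => hwc (conj_mem_center_iff.1 h)
  refine mem_normalizer_iff.2 fun a => ?_
  conv_rhs => rw [← e]
  exact ⟨fun ha => ⟨a, ha, rfl⟩, fun ⟨b, hb, hbe⟩ => (MulAut.conj g).injective hbe ▸ hb⟩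

theorem mix_fix {A : Subgroup G} (hA : Mix N r A) {g w : G} (hg : g ∈ N) (hgA : g ∉ A)
    (hw : w ∈ A) (hgw : g * w * g⁻¹ = w) : w ∈ center G := by
  by_contra hwc
  refine hgA ((hc.mix_eq hA hw hwc).ge ⟨hg, mem_centralizer_singleton_iff.2 ?_⟩)
  exact mul_inv_eq_iff_eq_mul.1 hgw

/-- The `r`-part of the order of a centralizer in `N` is constant. -/
theorem rpart {x : G} (hxN : x ∈ N) (hx : x ∉ center G) :
    (Nat.card ↥(N ⊓ centralizer ({x} : Set G))).factorization r + m.factorization r =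
      (Nat.card G).factorization r := by
  haveI := hc.normal
  set C := centralizer ({x} : Set G)
  have h1 : Nat.card ↥(N ⊓ C) * N.relIndex C = Nat.card C := by
    rw [inf_comm, ← Nat.card_congr (Subgroup.subgroupOfEquivOfLe (inf_le_left : C ⊓ N ≤ C)).toEquiv,
      inf_subgroupOf_left, Subgroup.relIndex, Subgroup.card_mul_index]
  have h2 : ¬ r ∣ N.relIndex C := fun h => R.not_dvd_index
    (h.trans ((relIndex_dvd_index_of_normal N C).trans (index_dvd_of_le hc.le)))
  have hne : N.relIndex C ≠ 0 := fun h => h2 (h ▸ dvd_zero r)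
  have hm0 : m ≠ 0 := hc.sizes x hxN hx ▸ index_ne_zero_of_finite
  rw [← C.index_mul_card, hc.sizes x hxN hx, ← h1,
    Nat.factorization_mul hm0 (mul_ne_zero Nat.card_pos.ne' hne),
    Nat.factorization_mul Nat.card_pos.ne' hne, Finsupp.add_apply, Finsupp.add_apply,
    Nat.factorization_eq_zero_of_not_dvd h2]
  omega

theorem rpart_eq {x y : G} (hxN : x ∈ N) (hx : x ∉ center G) (hyN : y ∈ N) (hy : y ∉ center G) :
    (Nat.card ↥(N ⊓ centralizer ({x} : Set G))).factorization r =
      (Nat.card ↥(N ⊓ centralizer ({y} : Set G))).factorization r := by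
  have h1 := hc.rpart hxN hx
  have h2 := hc.rpart hyN hy
  omega

/-- An `r`-subgroup centralizing `x` is no larger than the `r`-part of `N ∩ C(x)`. -/
theorem card_le_rpart {P : Subgroup G} (hP : P ≤ (R : Subgroup G)) {x : G}
    (hPx : P ≤ centralizer ({x} : Set G)) :
    Nat.card P ≤ r ^ (Nat.card ↥(N ⊓ centralizer ({x} : Set G))).factorization r := by
  obtain ⟨i, hi⟩ := IsPGroup.iff_card.1 (R.isPGroup'.to_le hP)
  have hd : r ^ i ∣ Nat.card ↥(N ⊓ centralizer ({x} : Set G)) :=
    hi ▸ card_dvd_of_le (le_inf (hP.trans hc.le) hPx)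
  rw [hi]
  exact Nat.pow_le_pow_right hr.out.pos
    ((hr.out.pow_dvd_iff_le_factorization Nat.card_pos.ne').1 hd)

/-- All `r`-elements of `A` lie in `R`. -/
def Full (R : Sylow r G) (A : Subgroup G) : Prop :=
  ∀ a ∈ A, (∃ i : ℕ, orderOf a = r ^ i) → a ∈ (R : Subgroup G)

theorem exists_full {A : Subgroup G} (hA : Mix N r A) :
    ∃ g ∈ N, Full R (A.map (MulAut.conj g).toMonoidHom) := by
  haveI := hc.normal
  haveI : IsMulCommutative A :=
    ⟨⟨fun a b => Subtype.ext (hc.mix_commute hA a.2 b.2).eq⟩⟩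
  obtain ⟨S⟩ : Nonempty (Sylow r A) := inferInstance
  haveI hSn : (S : Subgroup A).Normal := inferInstance
  have hSall : ∀ a : A, (∃ i : ℕ, orderOf a = r ^ i) → a ∈ (S : Subgroup A) := by
    rintro a ⟨i, hi⟩
    obtain ⟨P, hP⟩ := (IsPGroup.of_card (p := r) (G := zpowers a) (n := i)
      (by rw [Nat.card_zpowers, hi])).exists_le_sylow
    haveI := Sylow.unique_of_normal S hSn
    rw [Subsingleton.elim S P]
    exact hP (mem_zpowers a)
  set Sg := (S : Subgroup A).map A.subtype
  have hSN : Sg ≤ N := (map_subtype_le _).trans hA.le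
  have hSp : IsPGroup r (Sg.subgroupOf N) :=
    (S.isPGroup'.map A.subtype).comap_of_injective _ N.subtype_injective
  obtain ⟨Q, hQ⟩ := hSp.exists_le_sylow
  obtain ⟨g, hg⟩ := MulAction.exists_smul_eq N Q (R.subtype hc.le)
  refine ⟨g, g.2, ?_⟩
  rintro _ ⟨a, ha, rfl⟩ ⟨i, hi⟩
  have haS : a ∈ Sg := ⟨⟨a, ha⟩, hSall _ ⟨i, by
    rw [Subgroup.orderOf_mk, ← hi, ← MulEquiv.orderOf_eq (MulAut.conj (g : G)) a]; rfl⟩, rfl⟩
  have haQ : (⟨a, hSN haS⟩ : N) ∈ (Q : Subgroup N) := hQ haS
  have : g * ⟨a, hSN haS⟩ * g⁻¹ ∈ ((g • Q : Sylow r N) : Subgroup N) := by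
    rw [Sylow.coe_subgroup_smul]; exact ⟨_, haQ, rfl⟩
  rw [hg, Sylow.coe_subtype, mem_subgroupOf] at this
  exact this

theorem card_full {A : Subgroup G} (hA : Mix N r A) (hF : Full R A) :
    Nat.card ↥((R : Subgroup G) ⊓ A) = r ^ (Nat.card A).factorization r := by
  obtain ⟨S⟩ : Nonempty (Sylow r A) := inferInstance
  have h1 : (S : Subgroup A).map A.subtype = (R : Subgroup G) ⊓ A := by
    refine le_antisymm (le_inf ?_ (map_subtype_le _)) ?_
    · rintro _ ⟨a, ha, rfl⟩
      obtain ⟨i, hi⟩ := IsPGroup.iff_orderOf.1 S.2 ⟨a, ha⟩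
      rw [Subgroup.orderOf_mk, ← Subgroup.orderOf_coe] at hi
      exact hF _ a.2 ⟨i, hi⟩
    · intro a ha
      have hp : IsPGroup r (((R : Subgroup G) ⊓ A).subgroupOf A) :=
        (R.isPGroup'.to_le inf_le_left).comap_of_injective _ A.subtype_injective
      have hle : (S : Subgroup A) ≤ ((R : Subgroup G) ⊓ A).subgroupOf A := fun b hb => by
        rw [mem_subgroupOf]
        obtain ⟨i, hi⟩ := IsPGroup.iff_orderOf.1 S.2 ⟨b, hb⟩
        rw [Subgroup.orderOf_mk, ← Subgroup.orderOf_coe] at hi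
        exact ⟨hF _ b.2 ⟨i, hi⟩, b.2⟩
      have := S.is_maximal' hp hle
      exact ⟨⟨a, ha.2⟩, this ▸ mem_subgroupOf.2 ha, rfl⟩
  rw [← h1, ← Nat.card_congr (equivMapOfInjective _ _ A.subtype_injective).toEquiv,
    S.card_eq_multiplicity]

theorem exists_mem_full {A : Subgroup G} (hA : Mix N r A) (hF : Full R A) :
    ∃ x ∈ (R : Subgroup G) ⊓ A, x ∉ center G := by
  obtain ⟨x, hxA, hx, hi⟩ := hA.exists_rElem
  exact ⟨x, ⟨hF x hxA hi, hxA⟩, hx⟩

theorem exists_notMem_full {A : Subgroup G} (hA : Mix N r A) :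
    ∃ u ∈ (R : Subgroup G), u ∉ A := by
  by_contra h
  push Not at h
  obtain ⟨x, hxR, hx⟩ := hc.exists_noncentral
  exact hx (hc.cen x hxR fun u hu => hc.mix_commute hA (h u hu) (h x hxR))

theorem mem_normalizer_of_commutator {A : Subgroup G} (hA : Mix N r A) {s u : G} (hs : s ∈ A)
    (hsc : s ∉ center G) (hu : u ∈ N) (h : s * u * s⁻¹ * u⁻¹ ∈ center G) :
    u ∈ normalizer (A : Set G) := by
  haveI := hc.normal
  refine hc.mix_mem_normalizer hA hs hsc ?_
  rw [show u * s * u⁻¹ = (s * u * s⁻¹ * u⁻¹)⁻¹ * s by group]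
  refine mul_mem (hA.center_le ((N ⊓ center G).inv_mem (mem_inf.2 ⟨?_, h⟩))) hs
  exact mul_mem (mul_mem (mul_mem (hA.le hs) hu) (inv_mem (hA.le hs))) (inv_mem hu)

end Ctx

end CfsgLib.ClassSizes.TwoSizesNormal
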