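/-
Normal subgroups with two class sizes: the index of the normalizer of a mixed subgroup.
-/
import Mathlib
import Cfsg.Agent.Lib.ClassSizes.TwoSizesNormal.Basic

set_option autoImplicit false
set_option linter.all false

namespace CfsgLib.ClassSizes.TwoSizesNormal

open Subgroup CfsgLib.ClassSizes.TwoSizes
open scoped IsMulCommutative

variable {G : Type*} [Group G] [Finite G]

/-- The primary component of an abelian subgroup. -/
theorem exists_qPart (A : Subgroup G) (hA : ∀ a ∈ A, ∀ b ∈ A, Commute a b) (q : ℕ) [hq : Fact q.Prime] :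
    ∃ V : Subgroup G, V ≤ A ∧ (∀ a, a ∈ V ↔ a ∈ A ∧ ∃ i : ℕ, orderOf a = q ^ i) ∧
      Nat.card V = q ^ (Nat.card A).factorization q := by
  haveI : IsMulCommutative A := ⟨⟨fun a b => Subtype.ext (hA a a.2 b b.2).eq⟩⟩
  obtain ⟨S⟩ : Nonempty (Sylow q A) := inferInstance
  haveI hSn : (S : Subgroup A).Normal := inferInstance
  refine ⟨(S : Subgroup A).map A.subtype, map_subtype_le _, fun a => ⟨?_, ?_⟩, ?_⟩
  · rintro ⟨s, hs, rfl⟩
    obtain ⟨i, hi⟩ := IsPGroup.iff_orderOf.1 S.2 ⟨s, hs⟩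
    rw [Subgroup.orderOf_mk, ← Subgroup.orderOf_coe] at hi
    exact ⟨s.2, i, hi⟩
  · rintro ⟨ha, i, hi⟩
    obtain ⟨P, hP⟩ := (IsPGroup.of_card (p := q) (G := zpowers (⟨a, ha⟩ : A)) (n := i)
      (by rw [Nat.card_zpowers, Subgroup.orderOf_mk, hi])).exists_le_sylow
    haveI := Sylow.unique_of_normal S hSn
    refine ⟨⟨a, ha⟩, ?_, rfl⟩
    have := hP (mem_zpowers (⟨a, ha⟩ : A))
    rwa [Subsingleton.elim P S] at this
  · rw [← Nat.card_congr (equivMapOfInjective _ _ A.subtype_injective).toEquiv, S.card_eq_multiplicity]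

/-- Index of the image in the quotient by `N`. -/
noncomputable def qIndex (N : Subgroup G) [N.Normal] (X : Subgroup G) : ℕ :=
  (X.map (QuotientGroup.mk' N)).index

theorem qIndex_ne_zero (N : Subgroup G) [N.Normal] (X : Subgroup G) : qIndex N X ≠ 0 :=
  index_ne_zero_of_finite

variable {N : Subgroup G} {r : ℕ} [hr : Fact r.Prime] {R : Sylow r G} {m : ℕ}

namespace Ctx

variable (hc : Ctx N R m)

include hc

/-- The basic equation between the class size, the centralizer in `N` and the cover of `G / N`. -/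
theorem equation [N.Normal] {x : G} (hxN : x ∈ N) (hx : x ∉ center G) :
    m * Nat.card ↥(N ⊓ centralizer ({x} : Set G)) =
      qIndex N (centralizer ({x} : Set G)) * Nat.card N := by
  set C := centralizer ({x} : Set G)
  set f := QuotientGroup.mk' N
  have h1 : Nat.card (C.map f) * Nat.card ↥(N ⊓ C) = Nat.card C := by
    have h := (f.comp C.subtype).ker.card_mul_index
    rw [Subgroup.index_ker, MonoidHom.range_comp, Subgroup.range_subtype] at h
    rw [← h, mul_comm]
    congr 1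
    rw [← MonoidHom.comap_ker, QuotientGroup.ker_mk', inf_comm]
    exact (Nat.card_congr ((subgroupOfEquivOfLe (inf_le_left : C ⊓ N ≤ C)).toEquiv)).symm.trans
      (by rw [inf_subgroupOf_left]; rfl)
  have h2 := (C.map f).index_mul_card
  have h3 : Nat.card G = Nat.card N * Nat.card (G ⧸ N) := by
    rw [← index_eq_card, card_mul_index]
  have h4 := C.index_mul_card
  rw [hc.sizes x hxN hx, h3, ← h2] at h4
  refine Nat.eq_of_mul_eq_mul_right (Nat.card_pos (α := C.map f)) ?_
  calc m * Nat.card ↥(N ⊓ C) * Nat.card (C.map f) = m * Nat.card C := by rw [← h1]; ring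
    _ = _ := by rw [h4, qIndex]; ring

theorem equation_fact [N.Normal] {x : G} (hxN : x ∈ N) (hx : x ∉ center G) (q : ℕ) :
    m.factorization q + (Nat.card ↥(N ⊓ centralizer ({x} : Set G))).factorization q =
      (qIndex N (centralizer ({x} : Set G))).factorization q + (Nat.card N).factorization q := by
  have h := congrArg (fun n => n.factorization q) (hc.equation hxN hx)
  have hm0 : m ≠ 0 := hc.sizes x hxN hx ▸ index_ne_zero_of_finite
  rw [Nat.factorization_mul hm0 (Nat.card_pos (α := ↥(N ⊓ centralizer ({x} : Set G)))).ne',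
    Nat.factorization_mul (qIndex_ne_zero N (centralizer ({x} : Set G))) (Nat.card_pos (α := N)).ne',
    Finsupp.add_apply, Finsupp.add_apply] at h
  exact h

theorem exists_normalizing_full {A : Subgroup G} (hA : Mix N r A) (hF : Full R A) :
    ∃ u ∈ (R : Subgroup G), u ∉ A ∧ u ∈ normalizer (A : Set G) := by
  obtain ⟨x, hx, hxc⟩ := hc.exists_mem_full hA hF
  obtain ⟨v, hv, hvA⟩ := hc.exists_notMem_full hA
  haveI : Group.IsNilpotent (R : Subgroup G) := R.isPGroup'.isNilpotent
  have hlt : ((R : Subgroup G) ⊓ A).subgroupOf (R : Subgroup G) < ⊤ := by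
    rw [lt_top_iff_ne_top, Ne, subgroupOf_eq_top]
    exact fun h => hvA (h hv).2
  have hgrow := Group.normalizerCondition_of_isNilpotent _ hlt
  rw [← subgroupOf_normalizer_eq inf_le_left] at hgrow
  obtain ⟨u, hu, hu'⟩ := SetLike.exists_of_lt hgrow
  rw [mem_subgroupOf] at hu hu'
  refine ⟨u, u.2, fun h => hu' ⟨u.2, h⟩, ?_⟩
  exact hc.mix_mem_normalizer hA hx.2 hxc ((mem_normalizer_iff.1 hu x).1 hx).2

theorem exists_normalizing {A : Subgroup G} (hA : Mix N r A) :
    ∃ u ∈ N, u ∉ A ∧ u ∈ normalizer (A : Set G) ∧ ∃ i : ℕ, orderOf u = r ^ i := by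
  obtain ⟨g, hg, hF⟩ := hc.exists_full hA
  obtain ⟨u, huR, huA, huN⟩ := hc.exists_normalizing_full (hA.conj hc.normal g) hF
  obtain ⟨i, hi⟩ := IsPGroup.iff_orderOf.1 R.2 ⟨u, huR⟩
  rw [Subgroup.orderOf_mk] at hi
  refine ⟨g⁻¹ * u * g, mul_mem (mul_mem (inv_mem hg) (hc.le huR)) hg, fun h => huA ⟨_, h, ?_⟩, ?_, i, ?_⟩
  · show g * (g⁻¹ * u * g) * g⁻¹ = u
    group
  · obtain ⟨x, hxA, hxc, -⟩ := hA.exists_rElem
    refine hc.mix_mem_normalizer hA hxA hxc ?_
    obtain ⟨b, hb, e⟩ := (mem_normalizer_iff.1 huN (g * x * g⁻¹)).1 ⟨x, hxA, rfl⟩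
    have e' : g * b * g⁻¹ = u * (g * x * g⁻¹) * u⁻¹ := e
    have : g⁻¹ * u * g * x * (g⁻¹ * u * g)⁻¹ = b := by
      calc g⁻¹ * u * g * x * (g⁻¹ * u * g)⁻¹ = g⁻¹ * (u * (g * x * g⁻¹) * u⁻¹) * g := by group
        _ = g⁻¹ * (g * b * g⁻¹) * g := by rw [e']
        _ = b := by group
    rwa [this]
  · have := orderOf_conj g⁻¹ u
    rw [inv_inv] at this
    rw [this, hi]

theorem center_commute {a b : G} (ha : a ∈ N ⊓ center G) : Commute a b :=
  (Subgroup.mem_center_iff.1 ha.2 b).symm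

/-- The fixed points of a normalizing `r`-element give a congruence. -/
theorem qpart_congr {A : Subgroup G} (hA : Mix N r A) {q : ℕ} [hq : Fact q.Prime] :
    q ^ (Nat.card A).factorization q ≡
      q ^ (Nat.card ↥(N ⊓ center G)).factorization q [MOD r] := by
  classical
  obtain ⟨u, huN, huA, huK, i, hi⟩ := hc.exists_normalizing hA
  obtain ⟨V, hVA, hV, hVc⟩ := exists_qPart A (fun a ha b hb => hc.mix_commute hA ha hb) q
  obtain ⟨W, hWle, hW, hWc⟩ :=
    exists_qPart (N ⊓ center G) (fun a ha b _ => hc.center_commute ha) q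
  have huV : ∀ g ∈ zpowers u, ∀ v ∈ V, g * v * g⁻¹ ∈ V := by
    intro g hg v hv
    obtain ⟨hvA, j, hj⟩ := (hV v).1 hv
    exact (hV _).2 ⟨(mem_normalizer_iff.1 ((zpowers_le.2 huK) hg) v).1 hvA, j, by rw [orderOf_conj, hj]⟩
  letI : MulAction (zpowers u) V :=
    { smul := fun g v => ⟨(g : G) * v * (g : G)⁻¹, huV g g.2 v v.2⟩
      one_smul := fun v => Subtype.ext (by show (1 : G) * v * (1 : G)⁻¹ = v; group)
      mul_smul := fun g h v => Subtype.ext (by
        show ((g : G) * h) * v * ((g : G) * h)⁻¹ = (g : G) * ((h : G) * v * (h : G)⁻¹) * (g : G)⁻¹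
        group) }
  have hfix : ∀ v : V, v ∈ MulAction.fixedPoints (zpowers u) V ↔ (v : G) ∈ W := by
    intro v
    constructor
    · intro h
      have h1 : u * (v : G) * u⁻¹ = v := congrArg Subtype.val (h ⟨u, mem_zpowers u⟩)
      obtain ⟨hvA, hj⟩ := (hV v).1 v.2
      exact (hW v).2 ⟨⟨hA.le hvA, hc.mix_fix hA huN huA hvA h1⟩, hj⟩
    · intro h g
      refine Subtype.ext ?_
      show (g : G) * v * (g : G)⁻¹ = v
      rw [Subgroup.mem_center_iff.1 ((hW v).1 h).1.2 (g : G), mul_inv_cancel_right]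
  have hcount : Nat.card (MulAction.fixedPoints (zpowers u) V) = Nat.card W := by
    refine Nat.card_congr ⟨fun v => ⟨v.1, (hfix v.1).1 v.2⟩,
      fun w => ⟨⟨w, (hV w).2 ⟨hA.center_le ((hW w).1 w.2).1, ((hW w).1 w.2).2⟩⟩, (hfix _).2 w.2⟩,
      fun v => rfl, fun w => rfl⟩
  have := (IsPGroup.of_card (p := r) (G := zpowers u) (n := i)
    (by rw [Nat.card_zpowers, hi])).card_modEq_card_fixedPoints V
  rwa [hcount, hVc, hWc] at this

theorem center_fact_le {A : Subgroup G} (hA : Mix N r A) (q : ℕ) :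
    (Nat.card ↥(N ⊓ center G)).factorization q ≤ (Nat.card A).factorization q :=
  (Nat.factorization_le_iff_dvd Nat.card_pos.ne' Nat.card_pos.ne').2 (card_dvd_of_le hA.center_le) q

theorem succ_le_of_supported {A : Subgroup G} (hA : Mix N r A) {q : ℕ} [hq : Fact q.Prime]
    (hqr : q ≠ r)
    (hsup : (Nat.card ↥(N ⊓ center G)).factorization q < (Nat.card A).factorization q) :
    q ^ ((Nat.card A).factorization q - (Nat.card ↥(N ⊓ center G)).factorization q) ≡ 1 [MOD r] := by
  have h := hc.qpart_congr hA (q := q)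
  set a := (Nat.card A).factorization q
  set z := (Nat.card ↥(N ⊓ center G)).factorization q
  rw [show a = z + (a - z) by omega, pow_add] at h
  have hcop : Nat.gcd r (q ^ z) = 1 :=
    ((Nat.coprime_primes hr.out hq.out).2 (Ne.symm hqr)).pow_right z
  have h' : q ^ z * q ^ (a - z) ≡ q ^ z * 1 [MOD r] := by rwa [mul_one]
  exact Nat.ModEq.cancel_left_of_coprime hcop h'

/-- If `A` has noncentral `q`-elements, the normalizer and the centralizer cover the same
`q`-part of `G / N`. -/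
theorem shift [N.Normal] {A : Subgroup G} (hA : Mix N r A) {k : G} (hkA : k ∈ A) (hk : k ∉ center G)
    {q : ℕ} [hq : Fact q.Prime] (hqr : q ≠ r)
    (hsup : (Nat.card ↥(N ⊓ center G)).factorization q < (Nat.card A).factorization q) :
    (qIndex N (centralizer ({k} : Set G))).factorization q =
      (qIndex N (normalizer (A : Set G))).factorization q := by
  classical
  haveI := Fintype.ofFinite G
  set C := centralizer ({k} : Set G)
  set K := normalizer (A : Set G)
  set f := QuotientGroup.mk' N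
  have hCK : C ≤ K := fun g hg => hc.mix_mem_normalizer hA hkA hk (by
    rw [mem_centralizer_singleton_iff.1 hg, mul_inv_cancel_right]; exact hkA)
  -- Frattini in the normalizer
  set M := N.subgroupOf K
  haveI : M.Normal := inferInstance
  obtain ⟨u, huN, huA, huK, i, hi⟩ := hc.exists_normalizing hA
  obtain ⟨T₀, hT₀⟩ := (IsPGroup.of_card (p := r) (n := i)
    (G := zpowers (⟨⟨u, huK⟩, mem_subgroupOf.2 huN⟩ : M))
    (by rw [Nat.card_zpowers, ← Subgroup.orderOf_coe, ← Subgroup.orderOf_coe]; exact hi)).exists_le_sylow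
  have hfr := Sylow.normalizer_sup_eq_top T₀
  set L := normalizer (((T₀ : Subgroup M).map M.subtype : Subgroup K) : Set K) with hL
  set T := ((T₀ : Subgroup M).map M.subtype).map K.subtype with hT
  have huT : u ∈ T := ⟨⟨u, huK⟩, ⟨⟨⟨u, huK⟩, mem_subgroupOf.2 huN⟩, hT₀ (mem_zpowers _), rfl⟩, rfl⟩
  have hTN : T ≤ N := by
    rintro _ ⟨g, ⟨g', -, rfl⟩, rfl⟩
    exact g'.2
  have hTK : T ≤ K := map_subtype_le _
  have hTp : IsPGroup r T := (T₀.isPGroup'.map _).map _
  have hLT : ∀ g ∈ L, ∀ t ∈ T, (g : G) * t * (g : G)⁻¹ ∈ T := by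
    rintro g hg _ ⟨t, ht, rfl⟩
    exact ⟨g * t * g⁻¹, (mem_normalizer_iff.1 hg t).1 ht, rfl⟩
  -- the `q`-component
  obtain ⟨V, hVA, hV, hVc⟩ := exists_qPart A (fun a ha b hb => hc.mix_commute hA ha hb) q
  haveI : IsMulCommutative V :=
    ⟨⟨fun a b => Subtype.ext (hc.mix_commute hA (hVA a.2) (hVA b.2)).eq⟩⟩
  have hKV : ∀ g ∈ K, ∀ v ∈ V, g * v * g⁻¹ ∈ V := by
    intro g hg v hv
    obtain ⟨hvA, j, hj⟩ := (hV v).1 hv
    exact (hV _).2 ⟨(mem_normalizer_iff.1 hg v).1 hvA, j, by rw [orderOf_conj, hj]⟩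
  let act : (g : K) → (V →* V) := fun g =>
    { toFun := fun v => ⟨(g : G) * v * (g : G)⁻¹, hKV g g.2 v v.2⟩
      map_one' := Subtype.ext (by show (g : G) * (1 : G) * (g : G)⁻¹ = 1; group)
      map_mul' := fun a b => Subtype.ext (by
        show (g : G) * ((a : G) * b) * (g : G)⁻¹ =
          (g : G) * a * (g : G)⁻¹ * ((g : G) * b * (g : G)⁻¹)
        group) }
  let ν : V →* V := ∏ t : T, act ⟨t, hTK t.2⟩
  have hν : ∀ v, ν v = ∏ t : T, act ⟨t, hTK t.2⟩ v := fun v => MonoidHom.finsetProd_apply _ _ _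
  have hνeq : ∀ g : K, g ∈ L → ∀ v, ν (act g v) = act g (ν v) := by
    intro g hg v
    rw [hν, hν, map_prod]
    refine Fintype.prod_equiv
      ⟨fun t : T => (⟨(g⁻¹ : K) * (t : G) * ((g⁻¹ : K) : G)⁻¹, hLT g⁻¹ (inv_mem hg) t t.2⟩ : T),
        fun t : T => ⟨(g : G) * (t : G) * (g : G)⁻¹, hLT g hg t t.2⟩,
        fun t => Subtype.ext (by simp [mul_assoc]), fun t => Subtype.ext (by simp [mul_assoc])⟩ _ _
      fun t => Subtype.ext ?_
    show (t : G) * ((g : G) * v * (g : G)⁻¹) * (t : G)⁻¹ =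
      (g : G) * (((g⁻¹ : K) : G) * t * ((g⁻¹ : K) : G)⁻¹ * v *
        (((g⁻¹ : K) : G) * t * ((g⁻¹ : K) : G)⁻¹)⁻¹) * (g : G)⁻¹
    push_cast
    group
  -- values of `ν` are central
  have hνc : ∀ v : V, (ν v : G) ∈ center G := by
    intro v
    refine hc.mix_fix hA huN huA (hVA (ν v).2) ?_
    show ((act ⟨u, hTK huT⟩ (ν v) : V) : G) = ν v
    congr 1
    rw [hν, map_prod]
    refine Fintype.prod_equiv (Equiv.mulLeft (⟨u, huT⟩ : T)) _ _ fun t => Subtype.ext ?_
    show (u : G) * ((t : G) * v * (t : G)⁻¹) * u⁻¹ = (u * t) * v * (u * t)⁻¹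
    group
  -- central elements in the kernel are trivial
  have hker : ∀ v ∈ ν.ker, (v : G) ∈ center G → v = 1 := by
    intro v hv hvc
    have h1 : ν v = v ^ Nat.card T := by
      rw [hν, Finset.prod_congr rfl (fun (t : T) _ => show act ⟨t, hTK t.2⟩ v = v from Subtype.ext (by
        show (t : G) * v * (t : G)⁻¹ = v
        rw [Subgroup.mem_center_iff.1 hvc (t : G), mul_inv_cancel_right])), Finset.prod_const,
        Finset.card_univ, Nat.card_eq_fintype_card]
    rw [MonoidHom.mem_ker.1 hv] at h1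
    obtain ⟨j, hj⟩ := IsPGroup.iff_card.1 hTp
    obtain ⟨l, hl⟩ := ((hV v).1 v.2).2
    refine orderOf_eq_one_iff.1 (Nat.eq_one_of_dvd_coprimes
      (((Nat.coprime_primes hq.out hr.out).2 hqr).pow l j) ?_ (hj ▸ orderOf_dvd_of_pow_eq_one h1.symm))
    rw [← Subgroup.orderOf_coe, hl]
  have hkne : ν.ker ≠ ⊥ := by
    intro hbot
    obtain ⟨W, hWle, hW, hWc⟩ := exists_qPart (N ⊓ center G) (fun a ha b _ => hc.center_commute ha) q
    have hle : Nat.card V ≤ Nat.card W :=
      Nat.card_le_card_of_injective (fun v : V => (⟨(ν v : G), (hW _).2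
        ⟨⟨hA.le (hVA (ν v).2), hνc v⟩, ((hV _).1 (ν v).2).2⟩⟩ : W))
        fun a b h => (ν.ker_eq_bot_iff.1 hbot) (Subtype.ext (congrArg Subtype.val h :))
    rw [hVc, hWc] at hle
    exact absurd ((Nat.pow_le_pow_iff_right hq.out.one_lt).1 hle) (not_le.2 hsup)
  -- a fixed point
  obtain ⟨Qa⟩ : Nonempty (Sylow q L) := inferInstance
  letI : MulAction (Qa : Subgroup L) ν.ker :=
    { smul := fun g v => ⟨act ((g : L) : K) v, by
        rw [MonoidHom.mem_ker, hνeq _ (g : L).2, MonoidHom.mem_ker.1 v.2, map_one]⟩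
      one_smul := fun v => Subtype.ext (Subtype.ext (by
        show (1 : G) * ((v : V) : G) * (1 : G)⁻¹ = _; group))
      mul_smul := fun a b v => Subtype.ext (Subtype.ext (by
        show (((a : L) : K) : G) * (((b : L) : K) : G) * ((v : V) : G) *
            ((((a : L) : K) : G) * (((b : L) : K) : G))⁻¹ =
          (((a : L) : K) : G) * ((((b : L) : K) : G) * ((v : V) : G) * (((b : L) : K) : G)⁻¹) *
            (((a : L) : K) : G)⁻¹
        group)) }
  have hVp : IsPGroup q V := IsPGroup.of_card hVc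
  have hdvd : q ∣ Nat.card ν.ker := by
    obtain ⟨j, hj⟩ := IsPGroup.iff_card.1 (hVp.to_subgroup ν.ker)
    rcases j with _ | j
    · exact absurd (Subgroup.card_eq_one.1 hj) hkne
    · exact hj ▸ dvd_pow_self q j.succ_ne_zero
  obtain ⟨w, hwfix, hw1⟩ := Qa.isPGroup'.exists_fixed_point_of_prime_dvd_card_of_fixed_point ν.ker hdvd
    (a := 1) (fun g => Subtype.ext (map_one (act ((g : L) : K))))
  have hwc : ((w : V) : G) ∉ center G := fun h => hw1 (Subtype.ext (hker w w.2 h)).symm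
  obtain ⟨C', hAC, hall⟩ := hc.mix_spec hA
  have hCw : centralizer ({((w : V) : G)} : Set G) = C :=
    (hall _ (hVA (w : V).2) hwc).trans (hall k hkA hk).symm
  have hQC : ((Qa : Subgroup L).map L.subtype).map K.subtype ≤ C := by
    rintro _ ⟨_, ⟨g, hg, rfl⟩, rfl⟩
    rw [← hCw, mem_centralizer_singleton_iff]
    exact mul_inv_eq_iff_eq_mul.1
      (congrArg (fun v : ν.ker => ((v : V) : G)) (hwfix ⟨g, hg⟩))
  -- covering
  have hKL : K.map f = (L.map K.subtype).map f := by
    refine le_antisymm ?_ (map_mono (map_subtype_le _))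
    rintro _ ⟨g, hg, rfl⟩
    have := hfr.ge (mem_top (⟨g, hg⟩ : K))
    rw [sup_comm, ← SetLike.mem_coe, Subgroup.normal_mul] at this
    obtain ⟨n, hn, l, hl, e⟩ := Set.mem_mul.1 this
    refine ⟨(l : G), ⟨l, hl, rfl⟩, ?_⟩
    rw [← show (n : G) * (l : G) = g from congrArg Subtype.val e, map_mul,
      show f (n : G) = 1 from (QuotientGroup.eq_one_iff _).2 hn, one_mul]
  let φ : L →* G ⧸ N := f.comp (K.subtype.comp L.subtype)
  have hφr : φ.range = K.map f := by
    rw [hKL]
    show (f.comp (K.subtype.comp L.subtype)).range = _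
    rw [MonoidHom.range_comp, MonoidHom.range_comp, Subgroup.range_subtype]
  have hφQ : (Qa : Subgroup L).map φ ≤ C.map f := by
    rw [show (Qa : Subgroup L).map φ =
      (((Qa : Subgroup L).map L.subtype).map K.subtype).map f by rw [map_map, map_map]; rfl]
    exact map_mono hQC
  have hCKf : C.map f ≤ K.map f := map_mono hCK
  unfold qIndex
  rw [← relIndex_mul_index hCKf, Nat.factorization_mul
    (fun h => index_ne_zero_of_finite (H := C.map f) (by rw [← relIndex_mul_index hCKf, h, zero_mul]))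
    index_ne_zero_of_finite, Finsupp.add_apply]
  rw [Nat.factorization_eq_zero_of_not_dvd, zero_add]
  intro hd
  have h1 : ((Qa : Subgroup L).map φ).relIndex (K.map f) ∣ (Qa : Subgroup L).index := by
    rw [← hφr, MonoidHom.range_eq_map, ← Subgroup.relIndex_comap, comap_map_eq, relIndex_top_right]
    exact index_dvd_of_le le_sup_left
  exact Qa.not_dvd_index ((hd.trans (relIndex_dvd_of_le_left _ hφQ)).trans h1)

theorem unmixed_fact {y : G} (hy : ∀ w ∈ N, w ∉ center G → (orderOf w).Coprime r → ¬ Commute w y)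
    (hyN : y ∈ N) {q : ℕ} [hq : Fact q.Prime] (hqr : q ≠ r) :
    (Nat.card ↥(N ⊓ centralizer ({y} : Set G))).factorization q =
      (Nat.card ↥(N ⊓ center G)).factorization q := by
  set D := N ⊓ centralizer ({y} : Set G)
  have hle : N ⊓ center G ≤ D := fun z hz =>
    ⟨hz.1, mem_centralizer_singleton_iff.2 (Subgroup.mem_center_iff.1 hz.2 y).symm⟩
  refine le_antisymm ?_
    ((Nat.factorization_le_iff_dvd Nat.card_pos.ne' Nat.card_pos.ne').2 (card_dvd_of_le hle) q)
  obtain ⟨S⟩ : Nonempty (Sylow q D) := inferInstance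
  have hS : (S : Subgroup D).map D.subtype ≤ N ⊓ center G := by
    rintro _ ⟨s, hs, rfl⟩
    refine ⟨s.2.1, ?_⟩
    obtain ⟨i, hi⟩ := IsPGroup.iff_orderOf.1 S.2 ⟨s, hs⟩
    rw [Subgroup.orderOf_mk, ← Subgroup.orderOf_coe] at hi
    by_contra hsc
    exact hy s s.2.1 hsc (by rw [hi]; exact ((Nat.coprime_primes hq.out hr.out).2 hqr).pow_left i)
      (mem_centralizer_singleton_iff.1 s.2.2)
  have h := card_dvd_of_le hS
  rw [← Nat.card_congr (equivMapOfInjective _ _ D.subtype_injective).toEquiv, S.card_eq_multiplicity] at h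
  exact (hq.out.pow_dvd_iff_le_factorization Nat.card_pos.ne').1 h

end Ctx

end CfsgLib.ClassSizes.TwoSizesNormal
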