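/-
Normal subgroups with two class sizes: mixed subgroups normalised inside a Sylow subgroup.
-/
import Mathlib
import Cfsg.Agent.Lib.ClassSizes.TwoSizesNormal.Shift

set_option autoImplicit false
set_option linter.all false

namespace CfsgLib.ClassSizes.TwoSizesNormal

open Subgroup CfsgLib.ClassSizes.TwoSizes
open scoped IsMulCommutative

variable {G : Type*} [Group G] [Finite G]

theorem mul_card_le_of_lt {r : ℕ} [hr : Fact r.Prime] {P X Y : Subgroup G} (hP : IsPGroup r P)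
    (hY : Y ≤ P) (h : X < Y) : r * Nat.card X ≤ Nat.card Y := by
  obtain ⟨i, hi⟩ := IsPGroup.iff_card.1 (hP.to_le hY)
  obtain ⟨j, hj⟩ := IsPGroup.iff_card.1 (hP.to_le (h.le.trans hY))
  have hd := card_dvd_of_le h.le
  rw [hi, hj] at hd
  have hle := (Nat.pow_dvd_pow_iff_le_right hr.out.one_lt).1 hd
  have hne : j ≠ i := fun e => h.ne (eq_of_le_of_card_ge h.le (by rw [hi, hj, e]))
  rw [hi, hj, ← pow_succ']
  exact Nat.pow_le_pow_right hr.out.pos (by omega)

/-- The subgroup generated by `x` and the central part of `R`. -/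
def line {r : ℕ} (R : Sylow r G) (x : G) : Subgroup G :=
  zpowers x ⊔ (R : Subgroup G) ⊓ center G

theorem line_le {r : ℕ} (R : Sylow r G) {x : G} (hx : x ∈ (R : Subgroup G)) :
    line R x ≤ (R : Subgroup G) := sup_le (zpowers_le.2 hx) inf_le_left

theorem mem_line {r : ℕ} [hr : Fact r.Prime] (R : Sylow r G) {x y : G} (hxR : x ∈ (R : Subgroup G))
    (hx : x ^ r ∈ center G) (hy : y ∈ line R x) :
    ∃ j < r, ∃ z ∈ (R : Subgroup G) ⊓ center G, y = x ^ j * z := by
  set Zr := (R : Subgroup G) ⊓ center G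
  haveI : Zr.Normal := ⟨fun z hz g => by
    rw [Subgroup.mem_center_iff.1 hz.2 g, mul_inv_cancel_right]; exact hz⟩
  have hy' : y ∈ ((zpowers x ⊔ Zr : Subgroup G) : Set G) := hy
  rw [SetLike.mem_coe, ← SetLike.mem_coe, Subgroup.mul_normal] at hy'
  obtain ⟨a, ha, z, hz, rfl⟩ := Set.mem_mul.1 hy'
  obtain ⟨i, rfl⟩ := mem_zpowers_iff.1 ha
  have hr0 : (0 : ℤ) < r := by exact_mod_cast hr.out.pos
  refine ⟨(i % (r : ℤ)).toNat, ?_, (x ^ r) ^ (i / (r : ℤ)) * z,
    mul_mem (zpow_mem (mem_inf.2 ⟨pow_mem hxR r, hx⟩) _) hz, ?_⟩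
  · have h1 := Int.emod_lt_of_pos i hr0
    have h2 := Int.emod_nonneg i hr0.ne'
    omega
  · rw [← zpow_natCast x (i % (r : ℤ)).toNat, Int.toNat_of_nonneg (Int.emod_nonneg i hr0.ne'),
      ← mul_assoc, ← zpow_natCast x r, ← zpow_mul, ← zpow_add, Int.emod_add_mul_ediv]

theorem card_line_le {r : ℕ} [hr : Fact r.Prime] (R : Sylow r G) {x : G} (hxR : x ∈ (R : Subgroup G))
    (hx : x ^ r ∈ center G) :
    Nat.card (line R x) ≤ r * Nat.card ↥((R : Subgroup G) ⊓ center G) := by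
  have key : ∀ y : line R x, ∃ d : Fin r × ↥((R : Subgroup G) ⊓ center G),
      (y : G) = x ^ (d.1 : ℕ) * d.2 := by
    rintro ⟨y, hy⟩
    obtain ⟨j, hj, z, hz, e⟩ := mem_line R hxR hx hy
    exact ⟨⟨⟨j, hj⟩, ⟨z, hz⟩⟩, e⟩
  choose d hd using key
  calc Nat.card (line R x) ≤ Nat.card (Fin r × ↥((R : Subgroup G) ⊓ center G)) :=
        Nat.card_le_card_of_injective d fun a b hab => Subtype.ext (by rw [hd a, hd b, hab])
    _ = _ := by rw [Nat.card_prod, Nat.card_fin]

variable {N : Subgroup G} {r : ℕ} [hr : Fact r.Prime] {R : Sylow r G} {m : ℕ}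

namespace Ctx

variable (hc : Ctx N R m)

include hc

theorem center_le_R {z : G} (hz : z ∈ N ⊓ center G) {i : ℕ} (hi : orderOf z = r ^ i) :
    z ∈ (R : Subgroup G) := by
  have hpg : IsPGroup r ((R : Subgroup G) ⊔ zpowers z : Subgroup G) := by
    refine IsPGroup.to_sup_of_normal_right' R.isPGroup'
      (IsPGroup.of_card (by rw [Nat.card_zpowers, hi])) ?_
    intro a ha
    refine mem_normalizer_iff.2 fun b => ⟨fun hb => ?_, fun hb => ?_⟩
    · rw [Subgroup.mem_center_iff.1 ((zpowers_le.2 hz.2) hb) a, mul_inv_cancel_right]; exact hb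
    · have h := Subgroup.mem_center_iff.1 ((zpowers_le.2 hz.2) hb) a
      have hb' : b = a * b * a⁻¹ := by
        calc b = a⁻¹ * (a * b * a⁻¹) * a := by group
          _ = a * b * a⁻¹ := by rw [mul_assoc, ← h]; group
      rwa [← hb'] at hb
  rw [← R.is_maximal' hpg le_sup_left]
  exact mem_sup_right (mem_zpowers z)

theorem card_Zr :
    Nat.card ↥((R : Subgroup G) ⊓ center G) = r ^ (Nat.card ↥(N ⊓ center G)).factorization r := by
  obtain ⟨V, hV1, hV, hVc⟩ :=
    exists_qPart (N ⊓ center G) (fun a ha b _ => hc.center_commute ha) r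
  rw [← hVc]
  congr 2
  ext z
  rw [hV]
  constructor
  · intro hz
    obtain ⟨i, hi⟩ := IsPGroup.iff_orderOf.1 R.2 ⟨z, hz.1⟩
    rw [Subgroup.orderOf_mk] at hi
    exact ⟨⟨hc.le hz.1, hz.2⟩, i, hi⟩
  · rintro ⟨hz, i, hi⟩
    exact ⟨hc.center_le_R hz hi, hz.2⟩

theorem Zr_le {A : Subgroup G} (hA : Mix N r A) : (R : Subgroup G) ⊓ center G ≤ A :=
  fun z hz => hA.center_le ⟨hc.le hz.1, hz.2⟩

theorem line_lt {x : G} (hx : x ∉ center G) :
    (R : Subgroup G) ⊓ center G < line R x :=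
  lt_of_le_of_ne le_sup_right fun e => hx (e.ge (mem_sup_left (mem_zpowers x))).2

theorem exists_rpow_central {X : Subgroup G} (hX : X ≤ (R : Subgroup G)) {x : G} (hxX : x ∈ X)
    (hx : x ∉ center G) : ∃ y ∈ X, y ∉ center G ∧ y ^ r ∈ center G := by
  classical
  obtain ⟨k, hk⟩ := IsPGroup.iff_orderOf.1 R.2 ⟨x, hX hxX⟩
  rw [Subgroup.orderOf_mk] at hk
  have hex : ∃ j, x ^ r ^ j ∈ center G := ⟨k, by rw [← hk, pow_orderOf_eq_one]; exact one_mem _⟩
  have h0 : Nat.find hex ≠ 0 := fun h0 => hx (by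
    have := Nat.find_spec hex; rwa [h0, pow_zero, pow_one] at this)
  refine ⟨x ^ r ^ (Nat.find hex - 1), pow_mem hxX _, Nat.find_min hex (by omega), ?_⟩
  rw [← pow_mul, ← pow_succ, Nat.sub_add_cancel (Nat.one_le_iff_ne_zero.2 h0)]
  exact Nat.find_spec hex

theorem exists_centralish : ∃ t ∈ (R : Subgroup G), t ∉ center G ∧ t ^ r ∈ center G ∧
    ∀ u ∈ (R : Subgroup G), t * u * t⁻¹ * u⁻¹ ∈ center G := by
  obtain ⟨y₀, hy₀R, hy₀⟩ := hc.exists_noncentral
  haveI : Group.IsNilpotent (R : Subgroup G) := R.isPGroup'.isNilpotent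
  set Zs := (center G).subgroupOf (R : Subgroup G)
  haveI : Group.IsNilpotent ((R : Subgroup G) ⧸ Zs) :=
    Group.nilpotent_of_surjective (QuotientGroup.mk' Zs) (QuotientGroup.mk'_surjective Zs)
  haveI : Nontrivial ((R : Subgroup G) ⧸ Zs) := QuotientGroup.nontrivial_iff.2 fun htop =>
    hy₀ (mem_subgroupOf.1 (htop ▸ mem_top (⟨y₀, hy₀R⟩ : (R : Subgroup G))))
  obtain ⟨⟨tb, htbT, htb⟩, htb1⟩ := Subgroup.ne_bot_iff_exists_ne_one.1
    (CfsgLib.Core.inf_center_ne_bot_of_isNilpotent (⊤ : Subgroup ((R : Subgroup G) ⧸ Zs)) top_ne_bot)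
  obtain ⟨t₀, rfl⟩ := QuotientGroup.mk'_surjective Zs tb
  have ht₀ : (t₀ : G) ∉ center G := fun hz =>
    htb1 (Subtype.ext ((QuotientGroup.eq_one_iff t₀).2 (mem_subgroupOf.2 hz)))
  have ht₀c : ∀ u ∈ (R : Subgroup G), (t₀ : G) * u * (t₀ : G)⁻¹ * u⁻¹ ∈ center G := by
    intro u hu
    have h1 := Subgroup.mem_center_iff.1 htb (QuotientGroup.mk' Zs ⟨u, hu⟩)
    have h2 : QuotientGroup.mk' Zs (t₀ * ⟨u, hu⟩ * t₀⁻¹ * ⟨u, hu⟩⁻¹) = 1 := by
      rw [map_mul, map_mul, map_mul, map_inv, map_inv, ← h1, mul_inv_cancel_right, mul_inv_cancel]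
    exact mem_subgroupOf.1 ((QuotientGroup.eq_one_iff _).1 h2)
  obtain ⟨t, ht, htc, htr⟩ :=
    hc.exists_rpow_central (X := zpowers (t₀ : G)) (zpowers_le.2 t₀.2) (mem_zpowers _) ht₀
  refine ⟨t, (zpowers_le.2 t₀.2) ht, htc, htr, fun u hu => ?_⟩
  obtain ⟨n, rfl⟩ : ∃ n : ℕ, (t₀ : G) ^ n = t := by
    have h := (mem_powers_iff_mem_zpowers (x := (t₀ : G))).2 ht
    exact h
  rw [comm_pow_left rfl (ht₀c u hu)]
  exact pow_mem (ht₀c u hu) _

/-- Elements of `R` normalising a mixed subgroup are cyclic of order `r` modulo it. -/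
theorem exists_pow_mul_mem {A : Subgroup G} (hA : Mix N r A) {u z : G} (huN : u ∈ N) (hzN : z ∈ N)
    (hu : u ∈ normalizer (A : Set G)) (hz : z ∈ normalizer (A : Set G)) (huA : u ∉ A)
    (hur : u ^ r ∈ A) (hzr : z ^ r ∈ A) (hmem : z * u * z⁻¹ * u⁻¹ ∈ A) :
    ∃ j < r, u ^ j * z ∈ A := by
  classical
  obtain ⟨w, hwA, hwc, hwo⟩ : ∃ w ∈ A, w ∉ center G ∧ (orderOf w).Coprime r := by
    obtain ⟨k, x, hkN, hk, hko, -, -, -, -, rfl⟩ := hA
    exact ⟨k, ⟨hkN, mem_centralizer_singleton_iff.2 rfl⟩, hk, hko⟩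
  haveI : IsMulCommutative A := ⟨⟨fun a b => Subtype.ext (hc.mix_commute hA a.2 b.2).eq⟩⟩
  by_contra hcon
  push Not at hcon
  have hzA : z ∉ A := fun hzA => hcon 0 hr.out.pos (by rwa [pow_zero, one_mul])
  let f := Subgroup.normalizerMonoidHom A
  have act_coe : ∀ (g : normalizer (A : Set G)) (a : A),
      ((f g a : A) : G) = g * a * (g : G)⁻¹ := fun _ _ => rfl
  let u' : normalizer (A : Set G) := ⟨u, hu⟩
  let z' : normalizer (A : Set G) := ⟨z, hz⟩
  have hker : ∀ g : normalizer (A : Set G), (g : G) ∈ A → f g = 1 := fun g hg =>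
    MulEquiv.ext fun a => Subtype.ext (by
      have : (g : G) * a = a * g := (hc.mix_commute hA hg a.2).eq
      rw [act_coe, this, mul_inv_cancel_right]; rfl)
  have hcomm : Commute (f z') (f u') := by
    have h1 := hker (z' * u' * z'⁻¹ * u'⁻¹) hmem
    rw [map_mul, map_mul, map_mul, map_inv, map_inv, mul_inv_eq_one, mul_inv_eq_iff_eq_mul] at h1
    exact h1
  have hur' : f u' ^ r = 1 := by rw [← map_pow]; exact hker _ hur
  have hzr' : f z' ^ r = 1 := by rw [← map_pow]; exact hker _ hzr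
  have hnorm : ∀ g : normalizer (A : Set G), (g : G) ∈ N → (g : G) ∉ A → f g ^ r = 1 → ∀ a : A,
      ((∏ i ∈ Finset.range r, (f g ^ i) a : A) : G) ∈ center G := by
    intro g hgN hg hgr a
    refine hc.mix_fix hA hgN hg (SetLike.coe_mem _) ?_
    have hfixed : f g (∏ i ∈ Finset.range r, (f g ^ i) a) = ∏ i ∈ Finset.range r, (f g ^ i) a := by
      rw [map_prod]
      simp only [← MulAut.mul_apply, ← pow_succ']
      have e1 := Finset.prod_range_succ' (fun i => (f g ^ i) a) r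
      have e2 := Finset.prod_range_succ (fun i => (f g ^ i) a) r
      have e3 : (f g ^ r) a = (f g ^ 0) a := by rw [hgr, pow_zero]
      rw [e2, e3] at e1
      exact mul_right_cancel e1.symm
    exact (act_coe g _).symm.trans (congrArg Subtype.val hfixed)
  set w' : A := ⟨w, hwA⟩
  have hcenA : ∀ a : A, (a : G) ∈ center G → ∀ g : normalizer (A : Set G), f g a = a := fun a ha g =>
    Subtype.ext (by rw [act_coe, Subgroup.mem_center_iff.1 ha g, mul_inv_cancel_right])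
  obtain ⟨r', hr'⟩ : ∃ r', r = r' + 1 := ⟨r - 1, by have := hr.out.pos; omega⟩
  have houter : ∀ j, j < r → ((z' * u' ^ j : normalizer (A : Set G)) : G) ∉ A := by
    intro j hj hmem'
    have hmem'' : z * u ^ j ∈ A := hmem'
    have h1 := (mem_normalizer_iff.1 (pow_mem hu j) (z * u ^ j)).1 hmem''
    exact hcon j hj (by rwa [← mul_assoc, mul_inv_cancel_right] at h1)
  have hbig : ((∏ j ∈ Finset.range r, ∏ i ∈ Finset.range r, (f (z' * u' ^ j) ^ i) w' : A) : G)
      ∈ center G := by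
    change _ ∈ (center G).subgroupOf A
    refine prod_mem fun j hj => hnorm _ (mul_mem hzN (pow_mem huN j)) (houter j (Finset.mem_range.1 hj)) ?_ w'
    rw [map_mul, map_pow, (hcomm.pow_right j).mul_pow, hzr', one_mul, ← pow_mul, mul_comm, pow_mul,
      hur', one_pow]
  have hrow : ∀ i ∈ Finset.range r',
      ((∏ j ∈ Finset.range r, (f (z' * u' ^ j) ^ (i + 1)) w' : A) : G) ∈ center G := by
    intro i hi
    rw [Finset.mem_range] at hi
    have hcop : (i + 1).Coprime r := ((hr.out.coprime_iff_not_dvd).2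
      (Nat.not_dvd_of_pos_of_lt (Nat.succ_pos i) (by omega))).symm
    have hui : ((u' ^ (i + 1) : normalizer (A : Set G)) : G) ∉ A := by
      intro hmem'
      have hmem'' : u ^ (i + 1) ∈ A := hmem'
      obtain ⟨a, b, hab⟩ := Nat.Coprime.isCoprime hcop
      apply huA
      have e : u = (u ^ (i + 1)) ^ a * (u ^ r) ^ b := by
        rw [← zpow_natCast u (i + 1), ← zpow_natCast u r, ← zpow_mul, ← zpow_mul, ← zpow_add,
          mul_comm ((i + 1 : ℕ) : ℤ), mul_comm (r : ℤ), hab, zpow_one]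
      rw [e]
      exact mul_mem (zpow_mem hmem'' a) (zpow_mem hur b)
    have hsum : ∏ j ∈ Finset.range r, (f (z' * u' ^ j) ^ (i + 1)) w' =
        (f z' ^ (i + 1)) (∏ j ∈ Finset.range r, (f (u' ^ (i + 1)) ^ j) w') := by
      rw [map_prod]
      refine Finset.prod_congr rfl fun j _ => ?_
      rw [← MulAut.mul_apply]
      congr 1
      rw [map_mul, map_pow, map_pow, (hcomm.pow_right j).mul_pow, ← pow_mul, ← pow_mul, mul_comm j]
    rw [hsum]
    have hcn := hnorm (u' ^ (i + 1)) (pow_mem huN (i + 1)) hui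
      (by rw [map_pow, ← pow_mul, mul_comm, pow_mul, hur', one_pow]) w'
    rw [← map_pow, hcenA _ hcn]
    exact hcn
  rw [Finset.prod_comm, hr', Finset.prod_range_succ'] at hbig
  simp only [← hr', pow_zero] at hbig
  have hw' : ((∏ _x ∈ Finset.range r, (1 : MulAut A) w' : A) : G) ∈ center G :=
    (mul_mem_cancel_left (H := (center G).subgroupOf A) (prod_mem hrow)).1 hbig
  simp only [MulAut.one_apply, Finset.prod_const, Finset.card_range, SubmonoidClass.coe_pow] at hw'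
  obtain ⟨l, hl⟩ := exists_pow_eq_self_of_coprime (x := w) (n := r) hwo.symm
  exact hwc (hl ▸ pow_mem hw' l)

/-- Two mixed subgroups normalised by each other's `r`-parts: those parts are minimal. -/
theorem pair {A B : Subgroup G} (hA : Mix N r A) (hB : Mix N r B) (hFA : Full R A) (hFB : Full R B)
    (hne : A ≠ B) (hBA : ∀ y ∈ (R : Subgroup G) ⊓ B, y ∈ normalizer (A : Set G))
    (hAB : ∀ x ∈ (R : Subgroup G) ⊓ A, x ∈ normalizer (B : Set G)) :
    r ^ (Nat.card B).factorization r ≤ r * Nat.card ↥((R : Subgroup G) ⊓ center G) := by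
  have hinf : ∀ a, a ∈ A → a ∈ B → a ∈ center G := fun a haA haB => by
    by_contra h
    exact hne (hc.mix_unique hA hB haA haB h)
  obtain ⟨x₀, hx₀, hx₀c⟩ := hc.exists_mem_full hA hFA
  obtain ⟨x, hx, hxc, hxr⟩ := hc.exists_rpow_central (X := (R : Subgroup G) ⊓ A) inf_le_left hx₀ hx₀c
  have hcom : ∀ a ∈ (R : Subgroup G) ⊓ A, ∀ b ∈ (R : Subgroup G) ⊓ B, a * b * a⁻¹ * b⁻¹ ∈ center G := by
    intro a ha b hb
    refine hinf _ ?_ ?_
    · rw [show a * b * a⁻¹ * b⁻¹ = a * (b * a⁻¹ * b⁻¹) by group]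
      exact mul_mem ha.2 ((mem_normalizer_iff.1 (hBA b hb) a⁻¹).1 (inv_mem ha.2))
    · exact mul_mem ((mem_normalizer_iff.1 (hAB a ha) b).1 hb.2) (inv_mem hb.2)
  have hpow : ∀ y ∈ (R : Subgroup G) ⊓ B, y ^ r ∈ center G := by
    intro y hy
    have h1 := comm_pow_right rfl (hcom x hx y hy) r
    have h2 := comm_pow_left rfl (hcom x hx y hy) r
    rw [← Subgroup.mem_center_iff.1 hxr y, mul_inv_cancel_right, mul_inv_cancel] at h2
    rw [← h2, mul_inv_eq_one, mul_inv_eq_iff_eq_mul] at h1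
    refine hinf _ ((hc.mix_eq hA hx.2 hxc).ge ?_) (pow_mem hy.2 r)
    exact ⟨pow_mem (hB.le hy.2) r, mem_centralizer_singleton_iff.2 h1.symm⟩
  obtain ⟨y₀, hy₀, hy₀c⟩ := hc.exists_mem_full hB hFB
  have hy₀A : y₀ ∉ A := fun h => hy₀c (hinf _ h hy₀.2)
  have hsub : (R : Subgroup G) ⊓ B ≤ line R y₀ := by
    intro y hy
    obtain ⟨j, -, hj⟩ := hc.exists_pow_mul_mem hA (hc.le hy₀.1) (hc.le hy.1) (hBA y₀ hy₀) (hBA y hy)
      hy₀A (hc.Zr_le hA ⟨pow_mem hy₀.1 r, hpow y₀ hy₀⟩) (hc.Zr_le hA ⟨pow_mem hy.1 r, hpow y hy⟩)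
      (by rw [(hc.mix_commute hB hy.2 hy₀.2).eq, mul_inv_cancel_right, mul_inv_cancel]; exact A.one_mem)
    have hc' : y₀ ^ j * y ∈ (R : Subgroup G) ⊓ center G :=
      ⟨mul_mem (pow_mem hy₀.1 j) hy.1, hinf _ hj (mul_mem (pow_mem hy₀.2 j) hy.2)⟩
    rw [show y = (y₀ ^ j)⁻¹ * (y₀ ^ j * y) by group]
    exact mul_mem (inv_mem (pow_mem (mem_sup_left (mem_zpowers y₀)) j)) (mem_sup_right hc')
  rw [← hc.card_full hB hFB]
  exact (card_le_card_group hsub).trans (card_line_le R hy₀.1 (hpow y₀ hy₀)) |>.trans le_rfl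
  where
  card_le_card_group {X Y : Subgroup G} (h : X ≤ Y) : Nat.card X ≤ Nat.card Y :=
    Nat.le_of_dvd Nat.card_pos (card_dvd_of_le h)

theorem rpow_le {A : Subgroup G} (hA : Mix N r A) (hF : Full R A) :
    r * Nat.card ↥((R : Subgroup G) ⊓ center G) ≤ r ^ (Nat.card A).factorization r := by
  rw [← hc.card_full hA hF]
  obtain ⟨x, hx, hxc⟩ := hc.exists_mem_full hA hF
  refine mul_card_le_of_lt R.isPGroup' inf_le_left (lt_of_le_of_ne (le_inf inf_le_left (hc.Zr_le hA)) ?_)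
  exact fun e => hxc (e.ge hx).2

/-- The `r`-part of all mixed subgroups is the same. -/
theorem mix_rpart {A B : Subgroup G} (hA : Mix N r A) (hB : Mix N r B) :
    (Nat.card A).factorization r = (Nat.card B).factorization r := by
  obtain ⟨x, hxA, hxc, -⟩ := hA.exists_rElem
  obtain ⟨y, hyB, hyc, -⟩ := hB.exists_rElem
  rw [hc.mix_eq hA hxA hxc, hc.mix_eq hB hyB hyc]
  exact hc.rpart_eq (hA.le hxA) hxc (hB.le hyB) hyc

/-- Large `r`-parts: only one mixed subgroup has its `r`-part in `R`. -/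
theorem eq_of_big {A B : Subgroup G} (hA : Mix N r A) (hB : Mix N r B) (hFA : Full R A)
    (hFB : Full R B)
    (hbig : r * Nat.card ↥((R : Subgroup G) ⊓ center G) < r ^ (Nat.card A).factorization r) :
    A = B := by
  haveI := hc.normal
  have hnorm : ∀ {A : Subgroup G}, Mix N r A → Full R A →
      r * Nat.card ↥((R : Subgroup G) ⊓ center G) < r ^ (Nat.card A).factorization r →
      (R : Subgroup G) ≤ normalizer (A : Set G) := by
    intro A hA hF hbig
    by_contra hnot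
    set T := (R : Subgroup G) ⊓ normalizer (A : Set G) with hT
    haveI : Group.IsNilpotent (R : Subgroup G) := R.isPGroup'.isNilpotent
    have hlt : T.subgroupOf (R : Subgroup G) < ⊤ := by
      rw [lt_top_iff_ne_top, Ne, subgroupOf_eq_top]
      exact fun h => hnot (h.trans inf_le_right)
    have hgrow := Group.normalizerCondition_of_isNilpotent _ hlt
    rw [← subgroupOf_normalizer_eq inf_le_left] at hgrow
    obtain ⟨w, hw, hwT⟩ := SetLike.exists_of_lt hgrow
    rw [mem_subgroupOf] at hw hwT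
    set B := A.map (MulAut.conj (w : G)).toMonoidHom with hBdef
    have hBm : Mix N r B := hA.conj hc.normal _
    have hBF : Full R B := by
      rintro _ ⟨a, ha, rfl⟩ ⟨i, hi⟩
      exact mul_mem (mul_mem w.2 (hF a ha ⟨i, by
        rw [← hi, ← MulEquiv.orderOf_eq (MulAut.conj (w : G)) a]; rfl⟩)) (inv_mem w.2)
    obtain ⟨x, hx, hxc⟩ := hc.exists_mem_full hA hF
    have hne : A ≠ B := fun e => hwT ⟨w.2, hc.mix_mem_normalizer hA hx.2 hxc
      (show (w : G) * x * (w : G)⁻¹ ∈ A by rw [e]; exact ⟨x, hx.2, rfl⟩)⟩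
    refine absurd (hc.pair hA hBm hF hBF hne ?_ ?_) (not_le.2 (hc.mix_rpart hA hBm ▸ hbig))
    · rintro y ⟨hyR, a, ha, e⟩
      have e' : (w : G) * a * (w : G)⁻¹ = y := e
      have haR : a ∈ (R : Subgroup G) := by
        rw [show a = (w : G)⁻¹ * y * w by rw [← e']; group]
        exact mul_mem (mul_mem (inv_mem w.2) hyR) w.2
      have haT : a ∈ T := ⟨haR, le_normalizer ha⟩
      exact (e' ▸ (mem_normalizer_iff.1 hw a).1 haT : y ∈ T).2
    · intro x hx
      have hxT : x ∈ T := ⟨hx.1, le_normalizer hx.2⟩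
      have hx' : (w : G)⁻¹ * x * w ∈ T := by
        have := (mem_normalizer_iff.1 (inv_mem hw) x).1 hxT
        rwa [inv_inv] at this
      obtain ⟨b, hb, hbc, -⟩ := hBm.exists_rElem
      obtain ⟨a, ha, e⟩ := hb
      have e' : (w : G) * a * (w : G)⁻¹ = b := e
      refine hc.mix_mem_normalizer hBm ⟨a, ha, e⟩ hbc
        ⟨_, (mem_normalizer_iff.1 hx'.2 a).1 ha, ?_⟩
      show (w : G) * ((w : G)⁻¹ * x * w * a * ((w : G)⁻¹ * x * w)⁻¹) * (w : G)⁻¹ = x * b * x⁻¹
      rw [← e']; group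
  by_contra hne
  have hbigB := hc.mix_rpart hA hB ▸ hbig
  exact absurd (hc.pair hA hB hFA hFB hne (fun y hy => hnorm hA hFA hbig hy.1)
    (fun x hx => hnorm hB hFB hbigB hx.1)) (not_le.2 hbigB)

end Ctx

end CfsgLib.ClassSizes.TwoSizesNormal
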