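/-
Normal subgroups with two class sizes: at most `r + 1` orbits of mixed subgroups.
-/
import Mathlib
import Cfsg.Agent.Lib.ClassSizes.TwoSizesNormal.Pairs

set_option autoImplicit false
set_option linter.all false

namespace CfsgLib.ClassSizes.TwoSizesNormal

open Subgroup CfsgLib.ClassSizes.TwoSizes

variable {G : Type*} [Group G] [Finite G] {N : Subgroup G} {r : ℕ} [hr : Fact r.Prime]
  {R : Sylow r G} {m : ℕ}

/-- Subgroups of one order containing `M` and meeting pairwise in `M`, inside `R`. -/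
theorem family_card {R M : Subgroup G} (S : Finset (Subgroup G)) {d e : ℕ} (hle : ∀ X ∈ S, X ≤ R)
    (hM : ∀ X ∈ S, M ≤ X) (hcard : ∀ X ∈ S, Nat.card X = Nat.card M + d)
    (hinf : ∀ X ∈ S, ∀ Y ∈ S, X ≠ Y → X ⊓ Y ≤ M) (hR : Nat.card R ≤ Nat.card M + e) (hMR : M ≤ R) :
    S.card * d ≤ e ∧ (S.card * d = e → ∀ x ∈ R, x ∈ M ∨ ∃ X ∈ S, x ∈ X) := by
  classical
  haveI := Fintype.ofFinite G
  let Mf : Finset G := Finset.univ.filter fun a => a ∈ M
  let Rf : Finset G := Finset.univ.filter fun a => a ∈ R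
  let F : Subgroup G → Finset G := fun X => (Finset.univ.filter fun a => a ∈ X) \ Mf
  have hMf : Mf.card = Nat.card M := by
    rw [Nat.card_eq_fintype_card, Fintype.card_subtype]
  have hRf : Rf.card = Nat.card R := by
    rw [Nat.card_eq_fintype_card, Fintype.card_subtype]
  have hF : ∀ X ∈ S, (F X).card = d := by
    intro X hX
    have hsub : Mf ⊆ Finset.univ.filter fun a => a ∈ X := fun a ha => by
      simp only [Mf, Finset.mem_filter, Finset.mem_univ, true_and] at ha ⊢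
      exact hM X hX ha
    have e1 : (Finset.univ.filter fun a => a ∈ X).card = Nat.card X := by
      rw [Nat.card_eq_fintype_card, Fintype.card_subtype]
    rw [Finset.card_sdiff_of_subset hsub, e1, hMf, hcard X hX, Nat.add_sub_cancel_left]
  have hdisj : (S : Set (Subgroup G)).PairwiseDisjoint F := by
    intro X hX Y hY hne
    rw [Function.onFun, Finset.disjoint_left]
    intro a haX haY
    simp only [F, Mf, Finset.mem_sdiff, Finset.mem_filter, Finset.mem_univ, true_and] at haX haY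
    exact haX.2 (hinf X hX Y hY hne ⟨haX.1, haY.1⟩)
  have hU : (S.biUnion F).card = S.card * d := by
    rw [Finset.card_biUnion hdisj, Finset.sum_congr rfl hF, Finset.sum_const, smul_eq_mul]
  have hsubR : S.biUnion F ⊆ Rf \ Mf := by
    intro a ha
    simp only [Finset.mem_biUnion, F, Mf, Rf, Finset.mem_sdiff, Finset.mem_filter, Finset.mem_univ,
      true_and] at ha ⊢
    obtain ⟨X, hX, haX, haM⟩ := ha
    exact ⟨hle X hX haX, haM⟩
  have hMRf : Mf ⊆ Rf := fun a ha => by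
    simp only [Mf, Rf, Finset.mem_filter, Finset.mem_univ, true_and] at ha ⊢
    exact hMR ha
  have hdiff : (Rf \ Mf).card ≤ e := by
    rw [Finset.card_sdiff_of_subset hMRf, hRf, hMf]; omega
  refine ⟨hU ▸ (Finset.card_le_card hsubR).trans hdiff, fun heq x hx => ?_⟩
  by_cases hxM : x ∈ M
  · exact Or.inl hxM
  right
  have h := Finset.eq_of_subset_of_card_le hsubR (by rw [hU, heq]; exact hdiff)
  have hxd : x ∈ Rf \ Mf := by simp [Rf, Mf, hx, hxM]
  rw [← h, Finset.mem_biUnion] at hxd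
  obtain ⟨X, hX, hxX⟩ := hxd
  simp only [F, Finset.mem_sdiff, Finset.mem_filter, Finset.mem_univ, true_and] at hxX
  exact ⟨X, hX, hxX.1⟩

namespace Ctx

variable (hc : Ctx N R m)

include hc

/-- In the case of small `r`-parts the centralizer in `R` of a noncentral element is its line. -/
theorem inf_centralizer_eq_line {A : Subgroup G} (hA : Mix N r A)
    (hsmall : r ^ (Nat.card A).factorization r = r * Nat.card ↥((R : Subgroup G) ⊓ center G))
    {x : G} (hxR : x ∈ (R : Subgroup G)) (hx : x ∉ center G) :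
    (R : Subgroup G) ⊓ centralizer ({x} : Set G) = line R x ∧ x ^ r ∈ center G := by
  have key : ∀ {y : G}, y ∈ (R : Subgroup G) → y ∉ center G →
      (R : Subgroup G) ⊓ centralizer ({y} : Set G) = line R y := by
    intro y hyR hy
    have hle : line R y ≤ (R : Subgroup G) ⊓ centralizer ({y} : Set G) :=
      sup_le (zpowers_le.2 ⟨hyR, mem_centralizer_singleton_iff.2 rfl⟩)
        fun z hz => ⟨hz.1, mem_centralizer_singleton_iff.2 (Subgroup.mem_center_iff.1 hz.2 y).symm⟩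
    refine (eq_of_le_of_card_ge hle ?_).symm
    obtain ⟨a, haA, hac, -⟩ := hA.exists_rElem
    have h1 := hc.card_le_rpart (P := (R : Subgroup G) ⊓ centralizer ({y} : Set G)) inf_le_left
      inf_le_right
    rw [hc.rpart_eq (hc.le hyR) hy (hA.le haA) hac, ← hc.mix_eq hA haA hac, hsmall] at h1
    exact h1.trans (mul_card_le_of_lt R.isPGroup' (line_le R hyR) (hc.line_lt hy))
  refine ⟨key hxR hx, ?_⟩
  by_contra hxr
  have h2 : x ∈ line R (x ^ r) := by
    rw [← key (pow_mem hxR r) hxr]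
    exact ⟨hxR, mem_centralizer_singleton_iff.2 ((Commute.refl x).pow_right r).eq⟩
  have hmap : (line R (x ^ r)).map (QuotientGroup.mk' (center G)) ≤
      zpowers (QuotientGroup.mk' (center G) (x ^ r)) := by
    rw [line, Subgroup.map_sup, MonoidHom.map_zpowers]
    refine sup_le le_rfl ?_
    rintro _ ⟨z, hz, rfl⟩
    rw [show QuotientGroup.mk' (center G) z = 1 from (QuotientGroup.eq_one_iff _).2 hz.2]
    exact one_mem _
  obtain ⟨i, hi⟩ := mem_zpowers_iff.1 (hmap ⟨x, h2, rfl⟩)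
  set ξ := QuotientGroup.mk' (center G) x with hξ
  obtain ⟨k, hk⟩ := IsPGroup.iff_orderOf.1 R.2 ⟨x, hxR⟩
  rw [Subgroup.orderOf_mk] at hk
  obtain ⟨l, -, hl⟩ := (Nat.dvd_prime_pow hr.out).1
    (hk ▸ orderOf_map_dvd (QuotientGroup.mk' (center G)) x : orderOf ξ ∣ r ^ k)
  have h3 : ξ ^ ((r : ℤ) * i - 1) = 1 := by
    rw [zpow_sub_one, zpow_mul, zpow_natCast, hξ, ← map_pow, hi, mul_inv_cancel]
  have h4 : (orderOf ξ : ℤ) ∣ (r : ℤ) * i - 1 := orderOf_dvd_iff_zpow_eq_one.2 h3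
  rcases l with _ | l
  · rw [pow_zero, orderOf_eq_one_iff] at hl
    exact hx ((QuotientGroup.eq_one_iff _).1 hl)
  · have h5 : (r : ℤ) ∣ (r : ℤ) * i - 1 :=
      (Int.natCast_dvd_natCast.2 (dvd_pow_self r l.succ_ne_zero)).trans (hl ▸ h4)
    have h7 : (r : ℤ) ∣ 1 := by
      have := dvd_sub (dvd_mul_right (r : ℤ) i) h5
      rwa [sub_sub_cancel] at this
    exact hr.out.not_dvd_one (by exact_mod_cast h7)

theorem inf_eq_line {A : Subgroup G} (hA : Mix N r A) (hF : Full R A)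
    (hsmall : r ^ (Nat.card A).factorization r = r * Nat.card ↥((R : Subgroup G) ⊓ center G))
    {s : G} (hs : s ∈ (R : Subgroup G) ⊓ A) (hsc : s ∉ center G) :
    (R : Subgroup G) ⊓ A = line R s := by
  rw [← (hc.inf_centralizer_eq_line hA hsmall hs.1 hsc).1, hc.mix_eq hA hs.2 hsc]
  refine le_antisymm (fun a ha => mem_inf.2 ⟨ha.1, ha.2.2⟩) fun a ha => mem_inf.2 ⟨ha.1, mem_inf.2 ⟨hc.le ha.1, ha.2⟩⟩

theorem commutator_mem_centralizer {t : G} (htc : ∀ u ∈ (R : Subgroup G), t * u * t⁻¹ * u⁻¹ ∈ center G)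
    {a b : G} (ha : a ∈ (R : Subgroup G)) (hb : b ∈ (R : Subgroup G)) :
    a * b * a⁻¹ * b⁻¹ ∈ (R : Subgroup G) ⊓ centralizer ({t} : Set G) := by
  let χ : (R : Subgroup G) →* center G :=
    { toFun := fun u => ⟨t * u * t⁻¹ * (u : G)⁻¹, htc u u.2⟩
      map_one' := Subtype.ext (by simp)
      map_mul' := fun u v => Subtype.ext (by
        show t * ((u : G) * v) * t⁻¹ * ((u : G) * v)⁻¹ =
          t * u * t⁻¹ * (u : G)⁻¹ * (t * v * t⁻¹ * (v : G)⁻¹)
        calc t * ((u : G) * v) * t⁻¹ * ((u : G) * v)⁻¹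
            = (t * u * t⁻¹ * (u : G)⁻¹) * (u * (t * v * t⁻¹ * (v : G)⁻¹)) * (u : G)⁻¹ := by group
          _ = (t * u * t⁻¹ * (u : G)⁻¹) * ((t * v * t⁻¹ * (v : G)⁻¹) * u) * (u : G)⁻¹ := by
              rw [Subgroup.mem_center_iff.1 (htc v v.2) (u : G)]
          _ = _ := by group) }
  have h : χ (⟨a, ha⟩ * ⟨b, hb⟩ * ⟨a, ha⟩⁻¹ * ⟨b, hb⟩⁻¹) = 1 := by
    rw [map_mul, map_mul, map_mul, map_inv, map_inv]
    have hcm : χ ⟨a, ha⟩ * χ ⟨b, hb⟩ = χ ⟨b, hb⟩ * χ ⟨a, ha⟩ :=
      Subtype.ext (Subgroup.mem_center_iff.1 (χ ⟨b, hb⟩).2 (χ ⟨a, ha⟩ : G))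
    rw [hcm, mul_inv_cancel_right, mul_inv_cancel]
  refine mem_inf.2 ⟨mul_mem (mul_mem (mul_mem ha hb) (inv_mem ha)) (inv_mem hb), mem_centralizer_singleton_iff.2 ?_⟩
  have h' : t * (a * b * a⁻¹ * b⁻¹) * t⁻¹ * (a * b * a⁻¹ * b⁻¹)⁻¹ = 1 := congrArg Subtype.val h
  exact (mul_inv_eq_iff_eq_mul.1 (mul_inv_eq_one.1 h')).symm

theorem conj_eq_of_map_eq {A : Subgroup G} (hA : Mix N r A) {x a : G} (hxN : x ∈ N) (ha : a ∈ A)
    (h : QuotientGroup.mk' (center G) x = QuotientGroup.mk' (center G) a) : x ∈ A := by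
  have hd : a⁻¹ * x ∈ center G := by
    rw [← QuotientGroup.eq_one_iff (N := center G)]
    show QuotientGroup.mk' (center G) (a⁻¹ * x) = 1
    rw [map_mul, map_inv, h, inv_mul_cancel]
  have := mul_mem ha (hA.center_le (mem_inf.2 ⟨mul_mem (inv_mem (hA.le ha)) hxN, hd⟩))
  rwa [mul_inv_cancel_left] at this

/-- The keys: every mixed subgroup with `r`-part in `R` determines a subgroup of order `r |M|`. -/
theorem key_data {A : Subgroup G} (hA : Mix N r A)
    (hsmall : r ^ (Nat.card A).factorization r = r * Nat.card ↥((R : Subgroup G) ⊓ center G)) :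
    ∃ M : Subgroup G, M ≤ (R : Subgroup G) ∧ (R : Subgroup G) ⊓ center G ≤ M ∧
      Nat.card (R : Subgroup G) ≤ r * (r * Nat.card M) ∧
      (∀ B, Mix N r B → Full R B → Nat.card ↥(((R : Subgroup G) ⊓ B) ⊔ M) = r * Nat.card M ∧
        ∀ y ∈ ((R : Subgroup G) ⊓ B) ⊔ M, y ∉ M → ∃ u ∈ (R : Subgroup G), u⁻¹ * y * u ∈ B) ∧
      (M ≤ center G ∨ ∃ t ∈ (R : Subgroup G), t ∉ center G ∧ M = line R t ∧
        (∀ u ∈ (R : Subgroup G), t * u * t⁻¹ * u⁻¹ ∈ center G) ∧
        r ^ 3 * Nat.card ↥((R : Subgroup G) ⊓ center G) ≤ Nat.card (R : Subgroup G)) := by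
  haveI := hc.normal
  set Zr := (R : Subgroup G) ⊓ center G with hZr
  have hs0 : ∀ {B : Subgroup G}, Mix N r B →
      r ^ (Nat.card B).factorization r = r * Nat.card Zr := fun hB => hc.mix_rpart hA hB ▸ hsmall
  obtain ⟨t, htR, htnc, htr, htc⟩ := hc.exists_centralish
  set π := QuotientGroup.mk' (center G) with hπ
  set τ := π t with hτ
  have hLt := hc.inf_centralizer_eq_line hA hsmall htR htnc
  have hτr : τ ^ r = 1 := by rw [hτ, ← map_pow]; exact (QuotientGroup.eq_one_iff _).2 htr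
  have hcomτ : ∀ u ∈ (R : Subgroup G), Commute (π u) τ := by
    intro u hu
    have h := (QuotientGroup.eq_one_iff _).2 (htc u hu)
    have h' : π (t * u * t⁻¹ * u⁻¹) = 1 := h
    rw [map_mul, map_mul, map_mul, map_inv, map_inv, mul_inv_eq_one, mul_inv_eq_iff_eq_mul] at h'
    exact h'.symm
  have hψmem : ∀ a ∈ (R : Subgroup G), ∀ b ∈ (R : Subgroup G), π (a * b * a⁻¹ * b⁻¹) ∈ zpowers τ := by
    intro a ha b hb
    obtain ⟨j, -, z, hz, e⟩ := mem_line R htR htr (hLt.1 ▸ hc.commutator_mem_centralizer htc ha hb)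
    rw [e, map_mul, map_pow, show π z = 1 from (QuotientGroup.eq_one_iff _).2 hz.2, mul_one]
    exact pow_mem (mem_zpowers τ) j
  -- the commutator with an element of `R`
  have hψ : ∀ s ∈ (R : Subgroup G), ∃ ψ : (R : Subgroup G) →* G ⧸ center G,
      (∀ u : (R : Subgroup G), ψ u = π (s * u * s⁻¹ * (u : G)⁻¹)) ∧ ψ.range ≤ zpowers τ := by
    intro s hs
    refine ⟨{ toFun := fun u => π (s * u * s⁻¹ * (u : G)⁻¹)
              map_one' := by simp
              map_mul' := fun u v => ?_ }, fun u => rfl, ?_⟩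
    · obtain ⟨j, hj⟩ := mem_zpowers_iff.1 (hψmem s hs v v.2)
      show π (s * ((u : G) * v) * s⁻¹ * ((u : G) * v)⁻¹) = _
      rw [show s * ((u : G) * v) * s⁻¹ * ((u : G) * v)⁻¹ =
        (s * u * s⁻¹ * (u : G)⁻¹) * (u * (s * v * s⁻¹ * (v : G)⁻¹) * (u : G)⁻¹) by group,
        π.map_mul, show π ((u : G) * (s * v * s⁻¹ * (v : G)⁻¹) * (u : G)⁻¹) =
          π u * π (s * v * s⁻¹ * (v : G)⁻¹) * (π u)⁻¹ by rw [map_mul, map_mul, map_inv],
        ← hj, ((hcomτ u u.2).zpow_right j).eq, mul_inv_cancel_right]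
    · rintro _ ⟨u, rfl⟩
      exact hψmem s hs u u.2
  have hTcard : ∀ B, Mix N r B → Full R B → ∀ s ∈ (R : Subgroup G) ⊓ B, s ∉ center G →
      ∀ ψ : (R : Subgroup G) →* G ⧸ center G,
        (∀ u : (R : Subgroup G), ψ u = π (s * u * s⁻¹ * (u : G)⁻¹)) →
        Nat.card ψ.ker ≤ r * (r * Nat.card Zr) := by
    intro B hB hF s hs hsc ψ hψeq
    have hker : ∀ u ∈ ψ.ker, s * (u : G) * s⁻¹ * (u : G)⁻¹ ∈ center G := fun u hu =>
      (QuotientGroup.eq_one_iff _).1 ((hψeq u).symm.trans (MonoidHom.mem_ker.1 hu))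
    have hnorm : ∀ u ∈ ψ.ker, (u : G) ∈ normalizer (B : Set G) := fun u hu =>
      hc.mem_normalizer_of_commutator hB hs.2 hsc (hc.le u.2) (hker u hu)
    have hrB : ∀ u : (R : Subgroup G), (u : G) ^ r ∈ B := fun u => by
      by_cases huc : (u : G) ∈ center G
      · exact hB.center_le ⟨pow_mem (hc.le u.2) r, pow_mem huc r⟩
      · exact hB.center_le ⟨pow_mem (hc.le u.2) r, (hc.inf_centralizer_eq_line hA hsmall u.2 huc).2⟩
    have hsB : Nat.card ↥((R : Subgroup G) ⊓ B) = r * Nat.card Zr := by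
      rw [hc.card_full hB hF, hs0 hB]
    by_cases hall : ∀ u ∈ ψ.ker, (u : G) ∈ B
    · calc Nat.card ψ.ker ≤ Nat.card ↥((R : Subgroup G) ⊓ B) :=
            Nat.card_le_card_of_injective (fun u : ψ.ker => ⟨((u : (R : Subgroup G)) : G), u.1.2, hall u u.2⟩)
              fun a b hab => Subtype.ext (Subtype.ext (congrArg Subtype.val hab :))
        _ ≤ _ := by rw [hsB]; exact Nat.le_mul_of_pos_left _ hr.out.pos
    · push Not at hall
      obtain ⟨u, hu, huB, hucomm⟩ : ∃ u ∈ ψ.ker, (u : G) ∉ B ∧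
          ∀ z ∈ ψ.ker, (z : G) * u * (z : G)⁻¹ * (u : G)⁻¹ ∈ B := by
        by_cases htB : t ∈ B
        · obtain ⟨u, hu, huB⟩ := hall
          refine ⟨u, hu, huB, fun z _ => (hc.mix_eq hB htB htnc).ge ?_⟩
          exact ⟨hc.le (hc.commutator_mem_centralizer htc z.2 u.2).1,
            (hc.commutator_mem_centralizer htc z.2 u.2).2⟩
        · have hinv : ∀ a ∈ (R : Subgroup G), a * t * a⁻¹ * t⁻¹ ∈ center G := fun a ha => by
            have := (center G).inv_mem (htc a ha)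
            rwa [show (t * a * t⁻¹ * a⁻¹)⁻¹ = a * t * a⁻¹ * t⁻¹ by group] at this
          refine ⟨⟨t, htR⟩, ?_, htB, fun z _ => hB.center_le ⟨?_, hinv z z.2⟩⟩
          · rw [MonoidHom.mem_ker, hψeq]
            exact (QuotientGroup.eq_one_iff _).2 (hinv s hs.1)
          · exact hc.le (mul_mem (mul_mem (mul_mem z.2 htR) (inv_mem z.2)) (inv_mem htR))
      have key : ∀ z : ψ.ker, ∃ d : Fin r × ↥((R : Subgroup G) ⊓ B),
          ((z : (R : Subgroup G)) : G) = ((u : G) ^ (d.1 : ℕ))⁻¹ * d.2 := by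
        intro z
        obtain ⟨j, hj, hjB⟩ := hc.exists_pow_mul_mem hB (hc.le u.2) (hc.le z.1.2) (hnorm u hu)
          (hnorm z z.2) huB (hrB u) (hrB z) (hucomm z z.2)
        exact ⟨⟨⟨j, hj⟩, ⟨_, mul_mem (pow_mem u.2 j) z.1.2, hjB⟩⟩, (inv_mul_cancel_left _ _).symm⟩
      choose d hd using key
      calc Nat.card ψ.ker ≤ Nat.card (Fin r × ↥((R : Subgroup G) ⊓ B)) :=
            Nat.card_le_card_of_injective d fun a b hab =>
              Subtype.ext (Subtype.ext (by rw [hd a, hd b, hab]))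
        _ = _ := by rw [Nat.card_prod, Nat.card_fin, hsB]
  by_cases hR2 : Nat.card (R : Subgroup G) ≤ r * (r * Nat.card Zr)
  · refine ⟨Zr, inf_le_left, le_rfl, hR2, fun B hB hF => ?_, Or.inl inf_le_right⟩
    have hle : ((R : Subgroup G) ⊓ B) ⊔ Zr = (R : Subgroup G) ⊓ B :=
      sup_eq_left.2 (le_inf inf_le_left (hc.Zr_le hB))
    rw [hle]
    exact ⟨by rw [hc.card_full hB hF, hs0 hB],
      fun y hy _ => ⟨1, one_mem _, by rw [inv_one, one_mul, mul_one]; exact hy.2⟩⟩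
  -- large Sylow subgroup: the line of `t`
  push Not at hR2
  have hMcard : Nat.card (line R t) = r * Nat.card Zr :=
    le_antisymm (card_line_le R htR htr) (mul_card_le_of_lt R.isPGroup' (line_le R htR) (hc.line_lt htnc))
  have hR3 : r ^ 3 * Nat.card Zr ≤ Nat.card (R : Subgroup G) := by
    obtain ⟨i, hi⟩ := IsPGroup.iff_card.1 R.isPGroup'
    obtain ⟨z, hz⟩ := IsPGroup.iff_card.1 (R.isPGroup'.to_le (inf_le_left : Zr ≤ (R : Subgroup G)))
    rw [hi, hz] at hR2 ⊢
    rw [← pow_succ', ← pow_succ'] at hR2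
    have := (Nat.pow_lt_pow_iff_right hr.out.one_lt).1 hR2
    rw [← pow_add]
    exact Nat.pow_le_pow_right hr.out.pos (by omega)
  have hRle : Nat.card (R : Subgroup G) ≤ r * (r * Nat.card (line R t)) := by
    obtain ⟨B, hB⟩ : ∃ B, Mix N r B ∧ Full R B := by
      obtain ⟨g, -, hF⟩ := hc.exists_full hA
      exact ⟨_, hA.conj hc.normal g, hF⟩
    obtain ⟨s, hs, hsc⟩ := hc.exists_mem_full hB.1 hB.2
    obtain ⟨ψ, hψeq, hψr⟩ := hψ s hs.1
    have hk := hTcard B hB.1 hB.2 s hs hsc ψ hψeq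
    have hrg : Nat.card ψ.range ≤ r := (Nat.le_of_dvd Nat.card_pos (card_dvd_of_le hψr)).trans (by
      rw [Nat.card_zpowers]; exact Nat.le_of_dvd hr.out.pos (orderOf_dvd_of_pow_eq_one hτr))
    rw [← card_mul_index ψ.ker, Subgroup.index_ker, hMcard]
    calc Nat.card ψ.ker * Nat.card ψ.range ≤ r * (r * Nat.card Zr) * r := Nat.mul_le_mul hk hrg
      _ = _ := by ring
  refine ⟨line R t, line_le R htR, le_sup_right, hRle, fun B hB hF => ?_,
    Or.inr ⟨t, htR, htnc, rfl, htc, hR3⟩⟩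
  obtain ⟨s, hs, hsc⟩ := hc.exists_mem_full hB hF
  have hBline := hc.inf_eq_line hB hF (hs0 hB) hs hsc
  have hsr : s ^ r ∈ center G := (hc.inf_centralizer_eq_line hA hsmall hs.1 hsc).2
  have htB : t ∉ B := by
    intro htB
    obtain ⟨ψ, hψeq, -⟩ := hψ t htR
    have hk := hTcard B hB hF t ⟨htR, htB⟩ htnc ψ hψeq
    have : ψ.ker = ⊤ := eq_top_iff.2 fun u _ => MonoidHom.mem_ker.2
      ((hψeq u).trans ((QuotientGroup.eq_one_iff _).2 (htc u u.2)))
    rw [this, Subgroup.card_top] at hk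
    omega
  set M := line R t with hM
  set T := ((R : Subgroup G) ⊓ B) ⊔ M with hT
  have hTR : T ≤ (R : Subgroup G) := sup_le inf_le_left (line_le R htR)
  have hmapT : T.map π ≤ zpowers (π s) ⊔ zpowers τ := by
    rw [hT, hM, hBline, line, line, Subgroup.map_sup, Subgroup.map_sup, Subgroup.map_sup,
      MonoidHom.map_zpowers, MonoidHom.map_zpowers]
    have h1 : ((R : Subgroup G) ⊓ center G).map π ≤ ⊥ := by
      rintro _ ⟨z, hz, rfl⟩
      rw [mem_bot]
      exact (QuotientGroup.eq_one_iff _).2 hz.2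
    rw [le_bot_iff.1 h1, sup_bot_eq, sup_bot_eq]
  have hform : ∀ y ∈ T, ∃ a ∈ (R : Subgroup G) ⊓ B, ∃ j : ℤ, π y = π a * τ ^ j := by
    intro y hy
    have hy' := hmapT ⟨y, hy, rfl⟩
    have hnorm : zpowers (π s) ≤ normalizer ((zpowers τ : Subgroup (G ⧸ center G)) : Set (G ⧸ center G)) := by
      refine zpowers_le.2 (mem_normalizer_iff.2 fun w => ?_)
      constructor
      · intro hw
        obtain ⟨j, rfl⟩ := mem_zpowers_iff.1 hw
        rw [((hcomτ s hs.1).zpow_right j).eq, mul_inv_cancel_right]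
        exact zpow_mem_zpowers τ j
      · intro hw
        obtain ⟨j, hj⟩ := mem_zpowers_iff.1 hw
        have : w = (π s)⁻¹ * τ ^ j * π s := by rw [hj]; group
        rw [this, mul_assoc, ((hcomτ s hs.1).zpow_right j).symm.eq, inv_mul_cancel_left]
        exact zpow_mem_zpowers τ j
    have hy'' : π y ∈ ((zpowers (π s) ⊔ zpowers τ : Subgroup (G ⧸ center G)) : Set (G ⧸ center G)) := hy'
    rw [SetLike.mem_coe, CfsgLib.Core.mem_sup_iff_mul hnorm] at hy''
    obtain ⟨a, ha, w, hw, e⟩ := hy''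
    obtain ⟨i, rfl⟩ := mem_zpowers_iff.1 ha
    obtain ⟨j, rfl⟩ := mem_zpowers_iff.1 hw
    exact ⟨s ^ i, zpow_mem hs i, j, by rw [map_zpow]; exact e⟩
  constructor
  · -- the order
    have hlow : r * Nat.card M ≤ Nat.card T :=
      mul_card_le_of_lt R.isPGroup' hTR (lt_of_le_of_ne le_sup_right fun e => htB (by
        have : line R s ≤ line R t := hBline ▸ (le_sup_left.trans e.symm.le)
        have h2 : line R s = line R t := eq_of_le_of_card_ge this (by
          rw [hMcard]; exact mul_card_le_of_lt R.isPGroup' (line_le R hs.1) (hc.line_lt hsc))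
        have h3 : t ∈ line R s := h2.ge (mem_sup_left (mem_zpowers t))
        rw [← hBline] at h3
        exact h3.2))
    refine le_antisymm ?_ hlow
    have key : ∀ y : T, ∃ d : ↥((R : Subgroup G) ⊓ B) × Fin r,
        π y = π (d.1 : G) * τ ^ (d.2 : ℕ) := by
      intro y
      obtain ⟨a, ha, j, e⟩ := hform y y.2
      have hr0 : (0 : ℤ) < r := by exact_mod_cast hr.out.pos
      refine ⟨⟨⟨a, ha⟩, ⟨(j % (r : ℤ)).toNat, by
        have h1 := Int.emod_lt_of_pos j hr0
        have h2 := Int.emod_nonneg j hr0.ne'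
        omega⟩⟩, ?_⟩
      rw [e]
      congr 1
      show τ ^ j = τ ^ (j % (r : ℤ)).toNat
      rw [← zpow_natCast τ (j % (r : ℤ)).toNat, Int.toNat_of_nonneg (Int.emod_nonneg j hr0.ne')]
      conv_lhs => rw [← Int.emod_add_mul_ediv j r, zpow_add, zpow_mul, zpow_natCast, hτr, one_zpow, mul_one]
    have hinj : ∀ y : T, ∃ d : ↥((R : Subgroup G) ⊓ B) × Fin r, (y : G) = (d.1 : G) * t ^ (d.2 : ℕ) := by
      intro y
      obtain ⟨⟨a, j⟩, e⟩ := key y
      have hz : ((a : G) * t ^ (j : ℕ))⁻¹ * y ∈ Zr := by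
        refine mem_inf.2 ⟨mul_mem (inv_mem (mul_mem a.2.1 (pow_mem htR _))) (hTR y.2), ?_⟩
        rw [← QuotientGroup.eq_one_iff (N := center G)]
        show π _ = 1
        rw [map_mul, map_inv, map_mul, map_pow, e, inv_mul_cancel]
      refine ⟨⟨⟨(a : G) * (((a : G) * t ^ (j : ℕ))⁻¹ * y), mul_mem a.2
        ⟨hz.1, hB.center_le ⟨hc.le hz.1, hz.2⟩⟩⟩, j⟩, ?_⟩
      show (y : G) = (a : G) * (((a : G) * t ^ (j : ℕ))⁻¹ * y) * t ^ (j : ℕ)
      rw [mul_assoc, ← Subgroup.mem_center_iff.1 hz.2 (t ^ (j : ℕ))]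
      group
    choose d hd using hinj
    calc Nat.card T ≤ Nat.card (↥((R : Subgroup G) ⊓ B) × Fin r) :=
          Nat.card_le_card_of_injective d fun a b hab => Subtype.ext (by rw [hd a, hd b, hab])
      _ = _ := by rw [Nat.card_prod, Nat.card_fin, hc.card_full hB hF, hs0 hB, hMcard, mul_comm]
  · -- conjugation into `B`
    intro y hy hyM
    obtain ⟨a, ha, j, e⟩ := hform y hy
    have hac : a ∉ center G := by
      intro hac
      apply hyM
      have h1 : π a = 1 := (QuotientGroup.eq_one_iff _).2 hac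
      rw [h1, one_mul] at e
      have hd : (t ^ j)⁻¹ * y ∈ Zr := by
        refine mem_inf.2 ⟨mul_mem (inv_mem (zpow_mem htR _)) (hTR hy), ?_⟩
        rw [← QuotientGroup.eq_one_iff (N := center G)]
        show π _ = 1
        rw [map_mul, map_inv, map_zpow, e, inv_mul_cancel]
      rw [show y = t ^ j * ((t ^ j)⁻¹ * y) by group]
      exact mul_mem (zpow_mem (mem_sup_left (mem_zpowers t)) j) (mem_sup_right hd)
    obtain ⟨ψ, hψeq, hψr⟩ := hψ a ha.1
    have hne : ψ.range ≠ ⊥ := by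
      intro h
      have hk := hTcard B hB hF a ha hac ψ hψeq
      rw [MonoidHom.range_eq_bot_iff.1 h, MonoidHom.ker_one, Subgroup.card_top] at hk
      omega
    have hrange : ψ.range = zpowers τ := by
      refine eq_of_le_of_card_ge hψr ?_
      rw [Nat.card_zpowers]
      have h1 := card_dvd_of_le hψr
      rw [Nat.card_zpowers] at h1
      rcases (Nat.dvd_prime hr.out).1 (h1.trans (orderOf_dvd_of_pow_eq_one hτr)) with h | h
      · exact absurd (Subgroup.card_eq_one.1 h) hne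
      · rw [h]; exact Nat.le_of_dvd hr.out.pos (orderOf_dvd_of_pow_eq_one hτr)
    obtain ⟨u, hu⟩ := hrange.ge (zpow_mem_zpowers τ (-j))
    refine ⟨u, u.2, hc.conj_eq_of_map_eq hB
      (hc.le (mul_mem (mul_mem (inv_mem u.2) (hTR hy)) u.2)) ha.2 ?_⟩
    rw [hψeq, map_mul, map_mul, map_mul, map_inv, map_inv] at hu
    show π ((u : G)⁻¹ * y * u) = π a
    rw [map_mul, map_mul, map_inv, e]
    have hcu := (hcomτ u u.2).zpow_right j
    calc (π u)⁻¹ * (π a * τ ^ j) * π u = (π u)⁻¹ * (π a * (τ ^ j * π u)) := by group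
      _ = (π u)⁻¹ * (π a * (π u * τ ^ j)) := by rw [hcu.eq]
      _ = (π u)⁻¹ * ((π a * π u * (π a)⁻¹ * (π u)⁻¹) * π u * π a) * τ ^ j := by group
      _ = (π u)⁻¹ * (τ ^ (-j) * π u * π a) * τ ^ j := by rw [hu]
      _ = (π u)⁻¹ * (π u * τ ^ (-j) * π a) * τ ^ j := by rw [((hcomτ u u.2).zpow_right (-j)).eq]
      _ = τ ^ (-j) * π a * τ ^ j := by group
      _ = π a := by
          rw [mul_assoc, ((hcomτ a ha.1).zpow_right j).eq, ← mul_assoc, ← zpow_add, neg_add_cancel,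
            zpow_zero, one_mul]

/-- There are at most `r + 1` classes under `N`, and in the case of equality they cover. -/
theorem orbit_bound [N.Normal] {A : Subgroup G} (hA : Mix N r A) :
    qIndex N (normalizer (A : Set G)) ≤ r + 1 ∧
      (qIndex N (normalizer (A : Set G)) = r + 1 →
        (∀ B, Mix N r B → ∃ g, B = A.map (MulAut.conj g).toMonoidHom) ∧
        (Nat.card A).factorization r = (Nat.card ↥(N ⊓ center G)).factorization r + 1 ∧
        ((∀ x ∈ (R : Subgroup G), x ∉ center G → ∃ B, Mix N r B ∧ x ∈ B) ∨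
          ∃ t ∈ (R : Subgroup G), t ∉ center G ∧
            (∀ u ∈ (R : Subgroup G), t * u * t⁻¹ * u⁻¹ ∈ center G) ∧
            t ^ r ∈ center G ∧
            r ^ 3 * Nat.card ↥((R : Subgroup G) ⊓ center G) ≤ Nat.card (R : Subgroup G) ∧
            ∀ x ∈ (R : Subgroup G), x ∉ center G → x ∈ line R t ∨ ∃ B, Mix N r B ∧ x ∈ B)) := by
  classical
  set f := QuotientGroup.mk' N
  set K := normalizer (A : Set G)
  have hN := hc.normal
  -- one representative for each coset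
  have hrep : ∀ c : (G ⧸ N) ⧸ K.map f, ∃ g : G, (QuotientGroup.mk (f g) : (G ⧸ N) ⧸ K.map f) = c ∧
      Full R (A.map (MulAut.conj g).toMonoidHom) := by
    intro c
    obtain ⟨w, rfl⟩ := QuotientGroup.mk_surjective c
    obtain ⟨g, rfl⟩ := QuotientGroup.mk'_surjective N w
    obtain ⟨n, hn, hF⟩ := hc.exists_full (hA.conj hN g)
    refine ⟨n * g, ?_, ?_⟩
    · rw [map_mul, show f n = 1 from (QuotientGroup.eq_one_iff _).2 hn, one_mul]
    · rw [map_map] at hF
      convert hF using 2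
      ext x; simp [mul_assoc]
  choose g hg hgF using hrep
  have hsep : ∀ c c', (∃ n ∈ N, A.map (MulAut.conj (g c)).toMonoidHom =
      (A.map (MulAut.conj (g c')).toMonoidHom).map (MulAut.conj n).toMonoidHom) → c = c' := by
    rintro c c' ⟨n, hn, e⟩
    rw [← hg c, ← hg c', QuotientGroup.eq, ← map_inv, ← map_mul]
    obtain ⟨x, hxA, hxc, -⟩ := hA.exists_rElem
    obtain ⟨b, hb, eb⟩ : ∃ b ∈ A, n * (g c' * b * (g c')⁻¹) * n⁻¹ = g c * x * (g c)⁻¹ := by
      obtain ⟨_, ⟨b, hb, rfl⟩, e'⟩ := e.le ⟨x, hxA, rfl⟩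
      exact ⟨b, hb, e'⟩
    refine ⟨(g c)⁻¹ * n * g c', hc.mix_mem_normalizer hA hb ?_ ?_, ?_⟩
    · intro hbc
      exact hxc (conj_mem_center_iff.1 (eb ▸ conj_mem_center_iff.2 (conj_mem_center_iff.2 hbc)))
    · have : (g c)⁻¹ * n * g c' * b * ((g c)⁻¹ * n * g c')⁻¹ = x := by
        calc (g c)⁻¹ * n * g c' * b * ((g c)⁻¹ * n * g c')⁻¹
            = (g c)⁻¹ * (n * (g c' * b * (g c')⁻¹) * n⁻¹) * g c := by group
          _ = x := by rw [eb]; group
      rwa [this]
    · rw [map_mul, map_mul, show f n = 1 from (QuotientGroup.eq_one_iff _).2 hn, mul_one, map_mul]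
  have hI : qIndex N K = Nat.card ((G ⧸ N) ⧸ K.map f) := (K.map f).index_eq_card
  obtain ⟨g₀, -, hF₀⟩ := hc.exists_full hA
  set A₀ := A.map (MulAut.conj g₀).toMonoidHom
  have hA₀ : Mix N r A₀ := hA.conj hN g₀
  rcases (hc.rpow_le hA₀ hF₀).lt_or_eq with hbig | hsmall
  · -- only one class
    have hsub : Subsingleton ((G ⧸ N) ⧸ K.map f) := ⟨fun c c' => hsep c c' ⟨1, N.one_mem, by
      rw [hc.eq_of_big (hA.conj hN (g c)) (hA.conj hN (g c')) (hgF c) (hgF c')
        (hc.mix_rpart hA₀ (hA.conj hN (g c)) ▸ hbig)]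
      ext x; simp⟩⟩
    have h1 : qIndex N K ≤ 1 := hI ▸ Finite.card_le_one_iff_subsingleton.2 hsub
    have := hr.out.pos
    exact ⟨by omega, fun h => by omega⟩
  obtain ⟨M, hMR, hZM, hRM, hkey, halt⟩ := hc.key_data hA₀ hsmall.symm
  haveI := Fintype.ofFinite ((G ⧸ N) ⧸ K.map f)
  let key : (G ⧸ N) ⧸ K.map f → Subgroup G := fun c =>
    ((R : Subgroup G) ⊓ A.map (MulAut.conj (g c)).toMonoidHom) ⊔ M
  have hMpos : 0 < Nat.card M := Nat.card_pos
  have hmulr : Nat.card M < r * Nat.card M := lt_mul_left hMpos hr.out.one_lt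
  -- the same key gives classes under `N`
  have hsame : ∀ {B B' : Subgroup G}, Mix N r B → Full R B → Mix N r B' → Full R B' →
      ((R : Subgroup G) ⊓ B) ⊔ M = ((R : Subgroup G) ⊓ B') ⊔ M →
      ∃ u ∈ N, B = B'.map (MulAut.conj u).toMonoidHom := by
    intro B B' hB hF hB' hF' e
    obtain ⟨y, hy, hyM⟩ : ∃ y ∈ (R : Subgroup G) ⊓ B, y ∉ M := by
      by_contra hcon
      push Not at hcon
      have h1 := (hkey B hB hF).1
      rw [sup_eq_right.2 hcon] at h1
      omega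
    obtain ⟨u, hu, huy⟩ := (hkey B' hB' hF').2 y (e ▸ mem_sup_left hy) hyM
    have hyc : y ∉ center G := fun h => hyM (hZM ⟨hy.1, h⟩)
    refine ⟨u, hc.le hu, hc.mix_unique hB (hB'.conj hN u) hy.2 ⟨_, huy, ?_⟩ hyc⟩
    show u * (u⁻¹ * y * u) * u⁻¹ = y
    group
  have hinj : Function.Injective key := fun c c' e =>
    hsep c c' (hsame (hA.conj hN (g c)) (hgF c) (hA.conj hN (g c')) (hgF c') e)
  -- the family
  let S : Finset (Subgroup G) := Finset.univ.image key
  have hScard : S.card = qIndex N K := by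
    rw [Finset.card_image_of_injective _ hinj, Finset.card_univ, hI, Nat.card_eq_fintype_card]
  have hfam : ∀ S' : Finset (Subgroup G),
      (∀ X ∈ S', ∃ B, Mix N r B ∧ Full R B ∧ X = ((R : Subgroup G) ⊓ B) ⊔ M) →
      S'.card * ((r - 1) * Nat.card M) ≤ (r + 1) * ((r - 1) * Nat.card M) ∧
      (S'.card = r + 1 → ∀ x ∈ (R : Subgroup G), x ∈ M ∨ ∃ X ∈ S', x ∈ X) := by
    intro S' hS'
    obtain ⟨r₁, hr₁⟩ : ∃ r₁, r = r₁ + 1 := ⟨r - 1, by have := hr.out.pos; omega⟩
    have hsub : r * Nat.card M = Nat.card M + (r - 1) * Nat.card M := by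
      rw [hr₁, Nat.add_sub_cancel, add_mul, one_mul, add_comm]
    have hR' : Nat.card (R : Subgroup G) ≤ Nat.card M + (r + 1) * ((r - 1) * Nat.card M) :=
      hRM.trans (le_of_eq (by rw [hr₁, Nat.add_sub_cancel]; ring))
    have hinf : ∀ X ∈ S', ∀ Y ∈ S', X ≠ Y → X ⊓ Y ≤ M := by
      intro X hX Y hY hne
      obtain ⟨B, hB, hF, rfl⟩ := hS' X hX
      obtain ⟨B', hB', hF', rfl⟩ := hS' Y hY
      by_contra hnot
      have hle : (((R : Subgroup G) ⊓ B) ⊔ M) ⊓ (((R : Subgroup G) ⊓ B') ⊔ M) ≤ (R : Subgroup G) :=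
        inf_le_left.trans (sup_le inf_le_left hMR)
      have hlt : M < (((R : Subgroup G) ⊓ B) ⊔ M) ⊓ (((R : Subgroup G) ⊓ B') ⊔ M) :=
        lt_of_le_of_ne (le_inf le_sup_right le_sup_right) fun e => hnot e.ge
      have h1 := mul_card_le_of_lt R.isPGroup' hle hlt
      refine hne ((eq_of_le_of_card_ge inf_le_left ?_).symm.trans (eq_of_le_of_card_ge inf_le_right ?_))
      · rw [(hkey B hB hF).1]; exact h1
      · rw [(hkey B' hB' hF').1]; exact h1
    obtain ⟨h1, h2⟩ := family_card (R := (R : Subgroup G)) (M := M) S' (d := (r - 1) * Nat.card M)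
      (e := (r + 1) * ((r - 1) * Nat.card M))
      (fun X hX => by obtain ⟨B, -, -, rfl⟩ := hS' X hX; exact sup_le inf_le_left hMR)
      (fun X hX => by obtain ⟨B, -, -, rfl⟩ := hS' X hX; exact le_sup_right)
      (fun X hX => by obtain ⟨B, hB, hF, rfl⟩ := hS' X hX; rw [(hkey B hB hF).1, hsub]) hinf hR' hMR
    exact ⟨h1, fun h => h2 (by rw [h])⟩
  have hpos : 0 < (r - 1) * Nat.card M := Nat.mul_pos (by have := hr.out.two_le; omega) hMpos
  have hSspec : ∀ X ∈ S, ∃ B, Mix N r B ∧ Full R B ∧ X = ((R : Subgroup G) ⊓ B) ⊔ M := by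
    intro X hX
    obtain ⟨c, -, rfl⟩ := Finset.mem_image.1 hX
    exact ⟨_, hA.conj hN _, hgF c, rfl⟩
  refine ⟨hScard ▸ Nat.le_of_mul_le_mul_right (hfam S hSspec).1 hpos, fun heq => ⟨?_, ?_, ?_⟩⟩
  · intro B hB
    obtain ⟨n, hn, hF⟩ := hc.exists_full hB
    set B' := B.map (MulAut.conj n).toMonoidHom
    have hB' : Mix N r B' := hB.conj hN n
    obtain ⟨c, hcB⟩ : ∃ c, key c = ((R : Subgroup G) ⊓ B') ⊔ M := by
      by_contra hcon
      have hnot : ((R : Subgroup G) ⊓ B') ⊔ M ∉ S := fun h => hcon (by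
        obtain ⟨c, -, hc'⟩ := Finset.mem_image.1 h; exact ⟨c, hc'⟩)
      have h := (hfam (insert (((R : Subgroup G) ⊓ B') ⊔ M) S) (fun X hX => by
        rcases Finset.mem_insert.1 hX with rfl | hX
        · exact ⟨B', hB', hF, rfl⟩
        · exact hSspec X hX)).1
      rw [Finset.card_insert_of_notMem hnot, hScard, heq] at h
      have := Nat.le_of_mul_le_mul_right h hpos
      omega
    obtain ⟨u, -, e⟩ := hsame hB' hF (hA.conj hN (g c)) (hgF c) hcB.symm
    refine ⟨n⁻¹ * (u * g c), ?_⟩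
    have e' : B = B'.map (MulAut.conj n⁻¹).toMonoidHom := by
      rw [map_map]; ext x; simp [mul_assoc]
    rw [e', e, map_map, map_map]
    congr 1
    ext x; simp [mul_assoc]
  · have h1 := hsmall
    rw [hc.card_Zr, ← pow_succ'] at h1
    rw [hc.mix_rpart hA hA₀]
    exact (Nat.pow_right_injective hr.out.two_le h1).symm
  · have hcov := (hfam S hSspec).2 (hScard.trans heq)
    have hmixed : ∀ X ∈ S, ∀ x ∈ X, x ∉ M → ∃ B, Mix N r B ∧ x ∈ B := by
      intro X hX x hxX hxM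
      obtain ⟨B, hB, hF, rfl⟩ := hSspec X hX
      obtain ⟨u, hu, hux⟩ := (hkey B hB hF).2 x hxX hxM
      refine ⟨_, hB.conj hN u, _, hux, ?_⟩
      show u * (u⁻¹ * x * u) * u⁻¹ = x
      group
    rcases halt with hMc | ⟨t, htR, htnc, hMt, htc, hR3⟩
    · left
      intro x hx hxc
      rcases hcov x hx with h | ⟨X, hX, hxX⟩
      · exact absurd (hMc h) hxc
      · exact hmixed X hX x hxX fun h => hxc (hMc h)
    · right
      refine ⟨t, htR, htnc, htc, (hc.inf_centralizer_eq_line hA₀ hsmall.symm htR htnc).2, hR3,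
        fun x hx hxc => ?_⟩
      rcases hcov x hx with h | ⟨X, hX, hxX⟩
      · exact Or.inl (hMt ▸ h)
      · by_cases hxM : x ∈ M
        · exact Or.inl (hMt ▸ hxM)
        · exact Or.inr (hmixed X hX x hxX hxM)

end Ctx

end CfsgLib.ClassSizes.TwoSizesNormal
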