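/-
Normal subgroups with two class sizes: counting the conjugates of a subgroup.
-/
import Mathlib
import Cfsg.Agent.Lib.ClassSizes.TwoSizesNormal.Orbits

set_option autoImplicit false
set_option linter.all false

namespace CfsgLib.ClassSizes.TwoSizesNormal

open Subgroup CfsgLib.ClassSizes.TwoSizes

variable {G : Type*} [Group G] [Finite G]

theorem card_filter_mem [Fintype G] (H : Subgroup G) [DecidablePred fun a : G => a ∈ H] :
    (Finset.univ.filter fun a : G => a ∈ H).card = Nat.card H := by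
  rw [Nat.card_eq_fintype_card, Fintype.card_subtype]

/-- The conjugates under `N` of the elements of `D` outside `Z`. -/
theorem cover_card (N X D Z : Subgroup G) (hXN : X ≤ N)
    (hXD : ∀ h ∈ X, ∀ d ∈ D, h * d * h⁻¹ ∈ D) (hZD : Z ≤ D)
    (hZ : ∀ z ∈ Z, ∀ g ∈ N, g * z * g⁻¹ = z) (S : Finset G)
    (hS : ∀ x ∈ S, x ∉ Z ∧ ∃ g ∈ N, g⁻¹ * x * g ∈ D) :
    S.card * Nat.card X ≤ Nat.card N * (Nat.card D - Nat.card Z) := by
  classical
  haveI := Fintype.ofFinite G
  haveI := Fintype.ofFinite (↥N ⧸ X.subgroupOf N)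
  let Df : Finset G := (Finset.univ.filter fun a => a ∈ D) \ (Finset.univ.filter fun a => a ∈ Z)
  let F : ↥N ⧸ X.subgroupOf N → Finset G :=
    fun c => Df.image fun a => (c.out : G) * a * (c.out : G)⁻¹
  have hDf : Df.card = Nat.card D - Nat.card Z := by
    rw [Finset.card_sdiff_of_subset (fun a ha => by
      simp only [Finset.mem_filter, Finset.mem_univ, true_and] at ha ⊢; exact hZD ha),
      card_filter_mem, card_filter_mem]
  have hsub : S ⊆ Finset.univ.biUnion F := by
    intro x hx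
    obtain ⟨hxZ, g, hg, hgx⟩ := hS x hx
    set c : ↥N ⧸ X.subgroupOf N := QuotientGroup.mk ⟨g, hg⟩
    have hh : (c.out : G)⁻¹ * g ∈ X := by
      have h := mem_subgroupOf.1 (QuotientGroup.eq.1 (QuotientGroup.out_eq' c))
      exact h
    have hd : (c.out : G)⁻¹ * x * (c.out : G) ∈ D := by
      have h := hXD _ hh _ hgx
      have e : (c.out : G)⁻¹ * g * (g⁻¹ * x * g) * ((c.out : G)⁻¹ * g)⁻¹ =
          (c.out : G)⁻¹ * x * (c.out : G) := by group
      rwa [e] at h
    refine Finset.mem_biUnion.2 ⟨c, Finset.mem_univ _, Finset.mem_image.2 ⟨_, ?_,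
      show (c.out : G) * ((c.out : G)⁻¹ * x * (c.out : G)) * (c.out : G)⁻¹ = x by group⟩⟩
    simp only [Df, Finset.mem_sdiff, Finset.mem_filter, Finset.mem_univ, true_and]
    refine ⟨hd, fun hz => hxZ ?_⟩
    have h := hZ _ hz (c.out : G) c.out.2
    have e : (c.out : G) * ((c.out : G)⁻¹ * x * (c.out : G)) * (c.out : G)⁻¹ = x := by group
    rw [e] at h
    rwa [← h] at hz
  have h1 : S.card ≤ (X.subgroupOf N).index * (Nat.card D - Nat.card Z) := by
    refine (Finset.card_le_card hsub).trans (Finset.card_biUnion_le.trans ?_)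
    rw [index_eq_card, Nat.card_eq_fintype_card, ← Finset.card_univ]
    exact Finset.sum_le_card_nsmul _ _ _ fun c _ => Finset.card_image_le.trans hDf.le
  have h2 : (X.subgroupOf N).index * Nat.card X = Nat.card N := by
    rw [← Nat.card_congr (subgroupOfEquivOfLe hXN).toEquiv, index_mul_card]
  calc S.card * Nat.card X
      ≤ (X.subgroupOf N).index * (Nat.card D - Nat.card Z) * Nat.card X := Nat.mul_le_mul_right _ h1
    _ = _ := by rw [← h2]; ring

theorem card_map_mul (N X : Subgroup G) [N.Normal] :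
    Nat.card (X.map (QuotientGroup.mk' N)) * Nat.card ↥(N ⊓ X) = Nat.card X := by
  have h := ((QuotientGroup.mk' N).comp X.subtype).ker.card_mul_index
  rw [Subgroup.index_ker, MonoidHom.range_comp, Subgroup.range_subtype] at h
  rw [← h, mul_comm]
  congr 1
  rw [← MonoidHom.comap_ker, QuotientGroup.ker_mk', inf_comm]
  exact (Nat.card_congr ((subgroupOfEquivOfLe (inf_le_left : X ⊓ N ≤ X)).toEquiv)).symm.trans
    (by rw [inf_subgroupOf_left]; rfl)

theorem index_mul_inf (N X : Subgroup G) [N.Normal] :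
    X.index * Nat.card ↥(N ⊓ X) = qIndex N X * Nat.card N := by
  refine Nat.eq_of_mul_eq_mul_right (Nat.card_pos (α := X.map (QuotientGroup.mk' N))) ?_
  calc X.index * Nat.card ↥(N ⊓ X) * Nat.card (X.map (QuotientGroup.mk' N))
      = X.index * Nat.card X := by rw [mul_assoc, mul_comm (Nat.card ↥(N ⊓ X)), card_map_mul]
    _ = Nat.card (G ⧸ N) * Nat.card N := by
        rw [index_mul_card, ← index_eq_card, index_mul_card]
    _ = _ := by
        rw [← (X.map (QuotientGroup.mk' N)).index_mul_card, qIndex]; ring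

/-- A group is not covered by the conjugates of a proper subgroup. -/
theorem le_of_cover (N D : Subgroup G) (hDN : D ≤ N)
    (hS : ∀ x ∈ N, ∃ g ∈ N, g⁻¹ * x * g ∈ D) : N ≤ D := by
  classical
  haveI := Fintype.ofFinite G
  have h := cover_card N D D ⊥ hDN (fun h hh d hd => mul_mem (mul_mem hh hd) (inv_mem hh)) bot_le
    (fun z hz g hg => by rw [mem_bot.1 hz]; group)
    ((Finset.univ.filter fun a => a ∈ N).erase 1) (fun x hx => by
      simp only [Finset.mem_erase, Finset.mem_filter, Finset.mem_univ, true_and] at hx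
      exact ⟨fun h => hx.1 (mem_bot.1 h), hS x hx.2⟩)
  rw [Finset.card_erase_of_mem (by simp [N.one_mem]), card_filter_mem, Subgroup.card_bot] at h
  refine (eq_of_le_of_card_ge hDN ?_).ge
  have h1 := Nat.card_pos (α := N)
  have h2 := Nat.card_pos (α := D)
  rw [Nat.sub_mul, Nat.mul_sub, one_mul, mul_one] at h
  have h3 : Nat.card D ≤ Nat.card N * Nat.card D := Nat.le_mul_of_pos_left _ h1
  have h4 : Nat.card N ≤ Nat.card N * Nat.card D := Nat.le_mul_of_pos_right _ h2
  omega

variable {N : Subgroup G} {r : ℕ} [hr : Fact r.Prime] {R : Sylow r G} {m : ℕ}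

omit [Finite G] hr in
theorem Mix.exists_coprime {A : Subgroup G} (hA : Mix N r A) :
    ∃ k ∈ A, k ∉ center G ∧ (orderOf k).Coprime r := by
  obtain ⟨k, x, hkN, hk, hko, -, -, -, -, rfl⟩ := hA
  exact ⟨k, ⟨hkN, mem_centralizer_singleton_iff.2 rfl⟩, hk, hko⟩

omit [Finite G] in
theorem card_conj (A : Subgroup G) (g : G) :
    Nat.card (A.map (MulAut.conj g).toMonoidHom) = Nat.card A :=
  (Nat.card_congr (equivMapOfInjective A _ (MulAut.conj g).injective).toEquiv).symm

/-- The elements of the mixed subgroups, when these are all conjugate. -/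
theorem Ctx.mixed_card [N.Normal] (hc : Ctx N R m) {A : Subgroup G} (hA : Mix N r A)
    (hall : ∀ B, Mix N r B → ∃ g, B = A.map (MulAut.conj g).toMonoidHom) :
    ∃ S : Finset G, (∀ x, x ∈ S ↔ x ∉ center G ∧ ∃ B, Mix N r B ∧ x ∈ B) ∧
      S.card * Nat.card ↥(N ⊓ normalizer (A : Set G)) =
        qIndex N (normalizer (A : Set G)) * Nat.card N *
          (Nat.card A - Nat.card ↥(N ⊓ center G)) := by
  classical
  haveI := Fintype.ofFinite G
  set K := normalizer (A : Set G)
  haveI := Fintype.ofFinite (G ⧸ K)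
  let Af : Finset G :=
    (Finset.univ.filter fun a => a ∈ A) \ (Finset.univ.filter fun a => a ∈ N ⊓ center G)
  let F : G ⧸ K → Finset G := fun c => Af.image fun a => c.out * a * c.out⁻¹
  have hAf : Af.card = Nat.card A - Nat.card ↥(N ⊓ center G) := by
    rw [Finset.card_sdiff_of_subset (fun a ha => by
      simp only [Finset.mem_filter, Finset.mem_univ, true_and] at ha ⊢; exact hA.center_le ha),
      card_filter_mem, card_filter_mem]
  have hmem : ∀ {a : G}, a ∈ Af ↔ a ∈ A ∧ a ∉ center G := by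
    intro a
    simp only [Af, Finset.mem_sdiff, Finset.mem_filter, Finset.mem_univ, true_and]
    exact ⟨fun h => ⟨h.1, fun hz => h.2 (mem_inf.2 ⟨hA.le h.1, hz⟩)⟩,
      fun h => ⟨h.1, fun hz => h.2 hz.2⟩⟩
  have hdisj : ((Finset.univ : Finset (G ⧸ K)) : Set (G ⧸ K)).PairwiseDisjoint F := by
    intro c _ c' _ hne
    rw [Function.onFun, Finset.disjoint_left]
    intro x hx hx'
    obtain ⟨a, ha, rfl⟩ := Finset.mem_image.1 hx
    obtain ⟨b, hb, hbe⟩ := Finset.mem_image.1 hx'
    refine hne ?_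
    rw [← QuotientGroup.out_eq' c, ← QuotientGroup.out_eq' c', QuotientGroup.eq]
    refine hc.mix_mem_normalizer hA (hmem.1 hb).1 (hmem.1 hb).2 ?_
    have : c.out⁻¹ * c'.out * b * (c.out⁻¹ * c'.out)⁻¹ = a := by
      calc c.out⁻¹ * c'.out * b * (c.out⁻¹ * c'.out)⁻¹
          = c.out⁻¹ * (c'.out * b * c'.out⁻¹) * c.out := by group
        _ = a := by rw [hbe]; group
    rw [this]
    exact (hmem.1 ha).1
  refine ⟨Finset.univ.biUnion F, fun x => ⟨fun hx => ?_, fun hx => ?_⟩, ?_⟩
  · obtain ⟨c, -, hx⟩ := Finset.mem_biUnion.1 hx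
    obtain ⟨a, ha, rfl⟩ := Finset.mem_image.1 hx
    exact ⟨fun h => (hmem.1 ha).2 (conj_mem_center_iff.1 h),
      _, hA.conj inferInstance c.out, a, (hmem.1 ha).1, rfl⟩
  · obtain ⟨hxc, B, hB, hxB⟩ := hx
    obtain ⟨g, rfl⟩ := hall B hB
    obtain ⟨a, ha, rfl⟩ := hxB
    set c : G ⧸ K := QuotientGroup.mk g
    have hk : c.out⁻¹ * g ∈ K := QuotientGroup.eq.1 (QuotientGroup.out_eq' c)
    refine Finset.mem_biUnion.2 ⟨c, Finset.mem_univ _, Finset.mem_image.2
      ⟨c.out⁻¹ * g * a * (c.out⁻¹ * g)⁻¹, hmem.2 ⟨(mem_normalizer_iff.1 hk a).1 ha, ?_⟩, ?_⟩⟩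
    · exact fun h => hxc (conj_mem_center_iff.2 (conj_mem_center_iff.1 h))
    · show c.out * (c.out⁻¹ * g * a * (c.out⁻¹ * g)⁻¹) * c.out⁻¹ = g * a * g⁻¹
      group
  · have hcard : (Finset.univ.biUnion F).card = K.index * Af.card := by
      rw [Finset.card_biUnion hdisj, index_eq_card, Nat.card_eq_fintype_card, ← Finset.card_univ,
        ← smul_eq_mul, ← Finset.sum_const]
      exact Finset.sum_congr rfl fun c _ =>
        Finset.card_image_of_injective _ fun a b h => (MulAut.conj c.out).injective h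
    rw [hcard, hAf, mul_right_comm, index_mul_inf]

end CfsgLib.ClassSizes.TwoSizesNormal
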