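/-
Normal subgroups with two class sizes containing a noncentral Sylow subgroup are nilpotent.
-/
import Mathlib
import Cfsg.Agent.Lib.ClassSizes.TwoSizesNormal.Count

set_option autoImplicit false
set_option linter.all false

namespace CfsgLib.ClassSizes.TwoSizesNormal

open Subgroup CfsgLib.ClassSizes.TwoSizes

theorem arith_final {n z M U X e r : ℕ} (hr : 2 ≤ r) (hz : 0 < z) (he : 0 < e)
    (hn : n = z + (M + U))
    (hM : M * (e * r * (r * (r + 1) * z)) = (r + 1) * n * (r * (r + 1) * z - z))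
    (hU : U * X ≤ n * (r * z - z)) (hX : r ^ 3 * z ≤ X) (hXn : X ≤ n) : False := by
  obtain ⟨s, rfl⟩ : ∃ s, r = s + 2 := ⟨r - 2, by omega⟩
  have e1 : (s + 2) * (s + 2 + 1) * z - z = ((s + 2) * (s + 2 + 1) - 1) * z := by
    rw [Nat.sub_mul, one_mul]
  have e2 : (s + 2) * z - z = (s + 1) * z := by
    rw [show (s + 2) * z = (s + 1) * z + z by ring, Nat.add_sub_cancel]
  have e3 : (s + 2) * (s + 2 + 1) - 1 = s * s + 5 * s + 5 := by
    rw [show (s + 2) * (s + 2 + 1) = s * s + 5 * s + 5 + 1 by ring, Nat.add_sub_cancel]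
  rw [e1, e3] at hM
  rw [e2] at hU
  have hM' : M * (e * ((s + 2) * (s + 2))) = n * (s * s + 5 * s + 5) := by
    refine Nat.eq_of_mul_eq_mul_right (Nat.mul_pos (by omega : 0 < s + 2 + 1) hz) ?_
    calc M * (e * ((s + 2) * (s + 2))) * ((s + 2 + 1) * z)
        = M * (e * (s + 2) * ((s + 2) * (s + 2 + 1) * z)) := by ring
      _ = _ := by rw [hM]; ring
  have hU' : U * (s + 2) ^ 3 ≤ n * (s + 1) := by
    refine Nat.le_of_mul_le_mul_right ?_ hz
    calc U * (s + 2) ^ 3 * z = U * ((s + 2) ^ 3 * z) := by ring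
      _ ≤ U * X := Nat.mul_le_mul_left _ hX
      _ ≤ _ := hU.trans (le_of_eq (by ring))
  have hz0 : 0 < (s + 2) ^ 3 * z := Nat.mul_pos (by positivity) hz
  rcases Nat.lt_or_ge e 2 with he2 | he2
  · obtain rfl : e = 1 := by omega
    nlinarith
  · have hM2 : 2 * (M * ((s + 2) * (s + 2))) ≤ n * (s * s + 5 * s + 5) := by
      rw [← hM']
      calc 2 * (M * ((s + 2) * (s + 2))) = M * (2 * ((s + 2) * (s + 2))) := by ring
        _ ≤ _ := Nat.mul_le_mul_left _ (Nat.mul_le_mul_right _ he2)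
    have h1 : 2 * (s + 2) ^ 3 * (M + U) ≤ n * ((s + 2) * (s * s + 5 * s + 5) + 2 * (s + 1)) := by
      nlinarith
    have h2 : n * (s ^ 3 + 5 * s ^ 2 + 7 * s + 4) ≤ 2 * (s + 2) ^ 3 * z := by
      rw [hn] at h1 ⊢
      nlinarith
    have h3 : (s + 2) ^ 3 * z ≤ n := hX.trans hXn
    have h4 : n * 4 ≤ n * (s ^ 3 + 5 * s ^ 2 + 7 * s + 4) :=
      Nat.mul_le_mul_left _ (Nat.le_add_left _ _)
    linarith

variable {G : Type*} [Group G] [Finite G] {N : Subgroup G} {r : ℕ} [hr : Fact r.Prime]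
  {R : Sylow r G} {m : ℕ}

theorem exists_conj_mem (hle : (R : Subgroup G) ≤ N) {w : G} (hw : w ∈ N) {i : ℕ}
    (hi : orderOf w = r ^ i) : ∃ g ∈ N, g⁻¹ * w * g ∈ (R : Subgroup G) := by
  obtain ⟨P, hP⟩ := (IsPGroup.of_card (p := r) (G := zpowers (⟨w, hw⟩ : N)) (n := i)
    (by rw [Nat.card_zpowers, Subgroup.orderOf_mk, hi])).exists_le_sylow
  obtain ⟨g, hg⟩ := MulAction.exists_smul_eq N P (R.subtype hle)
  refine ⟨(g : G)⁻¹, inv_mem g.2, ?_⟩
  have h : g * ⟨w, hw⟩ * g⁻¹ ∈ ((g • P : Sylow r N) : Subgroup N) := by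
    rw [Sylow.coe_subgroup_smul]; exact ⟨_, hP (mem_zpowers _), rfl⟩
  rw [hg, Sylow.coe_subtype, mem_subgroupOf] at h
  rwa [inv_inv]

theorem exists_primary {x : G} (hx : x ∉ center G) :
    ∃ w ∈ zpowers x, w ∉ center G ∧ ∃ q j : ℕ, q.Prime ∧ orderOf w = q ^ j := by
  by_contra hcon
  push Not at hcon
  exact hx (mem_of_primary _ x fun w hw q j hq hj => by
    by_contra hwc
    exact hcon w hw hwc q j hq hj)

/-- The Sylow subgroup has a noncentral element in its centre: `N` is abelian. -/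
theorem comm_of_central (hN : N.Normal) (hle : (R : Subgroup G) ≤ N)
    (hs : ∀ x ∈ N, x ∉ center G → (centralizer ({x} : Set G)).index = m)
    {z : G} (hzR : z ∈ (R : Subgroup G)) (hz : z ∉ center G)
    (hzc : ∀ u ∈ (R : Subgroup G), Commute u z) : ∀ x ∈ N, ∀ y ∈ N, Commute x y := by
  set D := N ⊓ centralizer ((R : Subgroup G) : Set G)
  have hnd : ¬ r ∣ m := by
    rw [← hs z (hle hzR) hz]
    exact fun h => R.not_dvd_index (h.trans (index_dvd_of_le fun u hu =>
      mem_centralizer_singleton_iff.2 (hzc u hu).eq))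
  have hcov : ∀ x ∈ N, ∃ g ∈ N, g⁻¹ * x * g ∈ D := by
    intro x hx
    obtain ⟨S⟩ : Nonempty (Sylow r (centralizer ({x} : Set G))) := inferInstance
    set C := centralizer ({x} : Set G)
    have hC : ¬ r ∣ C.index := by
      by_cases hxc : x ∈ center G
      · rw [index_one_iff.2 hxc]; exact hr.out.not_dvd_one
      · rwa [hs x hx hxc]
    obtain ⟨P, hP⟩ := (S.isPGroup'.map C.subtype).exists_le_sylow
    have hPC : (P : Subgroup G) ≤ C := by
      refine (eq_of_le_of_card_ge hP ?_).ge.trans (map_subtype_le _)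
      rw [← Nat.card_congr (equivMapOfInjective (S : Subgroup C) _ (subtype_injective _)).toEquiv,
        P.card_eq_multiplicity]
      refine Nat.le_of_dvd Nat.card_pos (S.pow_dvd_card_of_pow_dvd_card ?_)
      have hd := Nat.ordProj_dvd (Nat.card G) r
      rw [← C.index_mul_card] at hd ⊢
      exact (((hr.out.coprime_iff_not_dvd).2 hC).pow_left _).dvd_of_dvd_mul_left hd
    have hPN : (P : Subgroup G) ≤ N := by
      obtain ⟨g, rfl⟩ := MulAction.exists_smul_eq G R P
      rw [Sylow.coe_subgroup_smul]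
      rintro _ ⟨w, hw, rfl⟩
      exact hN.conj_mem _ (hle hw) g
    obtain ⟨g, hg⟩ := MulAction.exists_smul_eq N (P.subtype hPN) (R.subtype hle)
    refine ⟨(g : G)⁻¹, inv_mem g.2, mem_inf.2 ⟨?_, mem_centralizer_iff.2 fun u hu => ?_⟩⟩
    · exact mul_mem (mul_mem (inv_mem (inv_mem g.2)) hx) (inv_mem g.2)
    · have hu' : (⟨u, hle hu⟩ : N) ∈ ((R.subtype hle : Sylow r N) : Subgroup N) := by
        rw [Sylow.coe_subtype]; exact mem_subgroupOf.2 hu
      rw [← hg, Sylow.coe_subgroup_smul] at hu'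
      obtain ⟨p, hp, e⟩ := hu'
      rw [Sylow.coe_subtype] at hp
      have hpx : (p : G) * x = x * p := mem_centralizer_singleton_iff.1 (hPC hp)
      have e' : (g : G) * p * (g : G)⁻¹ = u := congrArg Subtype.val e
      rw [← e', inv_inv]
      calc (g : G) * p * (g : G)⁻¹ * ((g : G) * x * (g : G)⁻¹) = (g : G) * ((p : G) * x) * (g : G)⁻¹ := by group
        _ = _ := by rw [hpx]; group
  have hND : N ≤ D := le_of_cover N D inf_le_left hcov
  have hRc : ∀ u ∈ (R : Subgroup G), ∀ y ∈ N, Commute u y := fun u hu y hy =>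
    mem_centralizer_iff.1 (hND hy).2 u hu
  intro x hx y hy
  have hxy : x ∈ centralizer ({y} : Set G) := mem_of_primary _ x fun w hw q j hq hj => by
    rw [mem_centralizer_singleton_iff]
    have hwN : w ∈ N := (zpowers_le.2 hx) hw
    by_cases hwc : w ∈ center G
    · exact (Subgroup.mem_center_iff.1 hwc y).symm
    by_cases hqr : q = r
    · subst hqr
      obtain ⟨g, hg, hgw⟩ := exists_conj_mem hle hwN hj
      have e : w = g⁻¹ * w * g := by
        have h : Commute (g⁻¹ * w * g) g := hRc _ hgw g hg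
        calc w = g * (g⁻¹ * w * g) * g⁻¹ := by group
          _ = g⁻¹ * w * g := by rw [← h.eq, mul_inv_cancel_right]
      exact hRc w (e ▸ hgw) y hy
    · obtain ⟨i, hi⟩ := IsPGroup.iff_orderOf.1 R.2 ⟨z, hzR⟩
      rw [Subgroup.orderOf_mk] at hi
      have hC := commute_coprime' hs hwN hwc (hle hzR) hz (hRc z hzR w hwN).symm
        (by rw [hj, hi]; exact ((Nat.coprime_primes hq hr.out).2 hqr).pow j i)
      have h : y ∈ centralizer ({w} : Set G) :=
        hC ▸ mem_centralizer_singleton_iff.2 (hRc z hzR y hy).symm.eq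
      exact (mem_centralizer_singleton_iff.1 h).symm
  exact mem_centralizer_singleton_iff.1 hxy

/-- If the elements of order prime to `r` are central, `N` is nilpotent. -/
theorem isNilpotent_of_coprime_central
    (h : ∀ k ∈ N, (orderOf k).Coprime r → k ∈ center G) : Group.IsNilpotent N := by
  haveI : Group.IsNilpotent (N ⧸ center N) := by
    refine IsPGroup.isNilpotent (p := r) fun x => ?_
    obtain ⟨y, rfl⟩ := QuotientGroup.mk'_surjective (center N) x
    refine ⟨(orderOf y).factorization r, ?_⟩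
    rw [← map_pow]
    refine (QuotientGroup.eq_one_iff _).2 (Subgroup.mem_center_iff.2 fun b => Subtype.ext ?_)
    refine Subgroup.mem_center_iff.1 (h _ (SetLike.coe_mem _) ?_) b
    rw [Subgroup.orderOf_coe, orderOf_pow_of_dvd (pow_ne_zero _ hr.out.ne_zero) (Nat.ordProj_dvd _ _)]
    exact (Nat.coprime_ordCompl hr.out (orderOf_pos y).ne').symm
  exact Subgroup.isNilpotent_of_ker_le_center (QuotientGroup.mk' (center N))
    (QuotientGroup.ker_mk' _).le

theorem le_qIndex [N.Normal] {X : Subgroup G} {q d : ℕ} (hq : q.Prime)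
    (h : d ≤ (qIndex N X).factorization q) : q ^ d ≤ qIndex N X :=
  Nat.le_of_dvd (Nat.pos_of_ne_zero (qIndex_ne_zero N X))
    ((hq.pow_dvd_iff_le_factorization (qIndex_ne_zero N X)).2 h)

theorem succ_le_of_modEq {q d : ℕ} (hq : q.Prime) (hd : d ≠ 0) (h : q ^ d ≡ 1 [MOD r]) :
    r + 1 ≤ q ^ d := by
  have h1 : 1 < q ^ d := Nat.one_lt_pow hd hq.one_lt
  have h2 : r ∣ q ^ d - 1 := (Nat.modEq_iff_dvd' h1.le).1 h.symm
  have := Nat.le_of_dvd (by omega) h2
  omega

namespace Ctx

variable (hc : Ctx N R m)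

include hc

theorem card_eq [N.Normal] {A B : Subgroup G} (hA : Mix N r A) (hB : Mix N r B) :
    Nat.card A = Nat.card B := by
  have key : ∀ {A B : Subgroup G}, Mix N r A → Mix N r B → ∀ q : ℕ,
      (Nat.card A).factorization q ≤ (Nat.card B).factorization q := by
    intro A B hA hB q
    by_cases hq : q.Prime
    swap
    · rw [Nat.factorization_eq_zero_of_not_prime _ hq]; exact Nat.zero_le _
    haveI := Fact.mk hq
    by_cases hqr : q = r
    · subst hqr; exact (hc.mix_rpart hA hB).le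
    by_contra hlt
    rw [not_le] at hlt
    have hz := hc.center_fact_le hB q
    obtain ⟨a, haA, hac, -⟩ := hA.exists_coprime
    obtain ⟨b, hbB, hbc, -⟩ := hB.exists_coprime
    have eA := hc.equation_fact (hA.le haA) hac q
    rw [← hc.mix_eq hA haA hac, hc.shift hA haA hac hqr (lt_of_le_of_lt hz hlt)] at eA
    have eB := hc.equation_fact (hB.le hbB) hbc q
    rw [← hc.mix_eq hB hbB hbc] at eB
    have hI := le_qIndex (N := N) (X := normalizer (A : Set G)) hq
      (d := (Nat.card A).factorization q - (Nat.card B).factorization q) (by omega)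
    have hmod : q ^ ((Nat.card A).factorization q - (Nat.card B).factorization q) ≡ 1 [MOD r] := by
      have h := (hc.qpart_congr hA (q := q)).trans (hc.qpart_congr hB (q := q)).symm
      have e : (Nat.card A).factorization q = (Nat.card B).factorization q +
          ((Nat.card A).factorization q - (Nat.card B).factorization q) := by omega
      rw [e, pow_add] at h
      exact Nat.ModEq.cancel_left_of_coprime
        (((Nat.coprime_primes hr.out hq).2 (Ne.symm hqr)).pow_right _) (by rwa [mul_one])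
    have h1 := succ_le_of_modEq hq (by omega) hmod
    obtain ⟨hle, heq⟩ := hc.orbit_bound hA
    obtain ⟨g, rfl⟩ := (heq (by omega)).1 B hB
    rw [card_conj] at hlt
    exact lt_irrefl _ hlt
  exact Nat.eq_of_factorization_eq Nat.card_pos.ne' Nat.card_pos.ne'
    fun q => le_antisymm (key hA hB q) (key hB hA q)

/-- All elements mixed. -/
theorem isNilpotent_of_mixed [N.Normal]
    (hall : ∀ x ∈ N, x ∉ center G → ∃ B, Mix N r B ∧ x ∈ B) : Group.IsNilpotent N := by
  classical
  by_cases hab : ∀ x ∈ N, ∀ y ∈ N, Commute x y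
  · exact Subgroup.isNilpotent_of_ker_le_center (1 : N →* (⊥ : Subgroup G))
      fun x _ => Subgroup.mem_center_iff.2 fun y => Subtype.ext (hab y y.2 x x.2).eq
  obtain ⟨x₀, hx₀R, hx₀⟩ := hc.exists_noncentral
  obtain ⟨A, hA, hx₀A⟩ := hall x₀ (hc.le hx₀R) hx₀
  have hAN : ∀ {B : Subgroup G}, Mix N r B → Nat.card B < Nat.card N := fun {B} hB => by
    refine lt_of_le_of_ne (Nat.le_of_dvd Nat.card_pos (card_dvd_of_le hB.le)) fun e => hab ?_
    intro x hx y hy
    have := eq_of_le_of_card_ge hB.le e.ge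
    exact hc.mix_commute hB (this ▸ hx) (this ▸ hy)
  have hcard : ∀ x : N, (x : G) ∉ center G →
      Nat.card (centralizer ({x} : Set N)) = Nat.card A := by
    intro x hx
    obtain ⟨B, hB, hxB⟩ := hall x x.2 hx
    have e : (centralizer ({x} : Set N)).map N.subtype = B := by
      rw [hc.mix_eq hB hxB hx]
      ext a
      simp only [mem_map, mem_centralizer_singleton_iff, mem_inf]
      constructor
      · rintro ⟨b, hb, rfl⟩
        exact ⟨b.2, congrArg Subtype.val hb⟩
      · rintro ⟨haN, ha⟩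
        exact ⟨⟨a, haN⟩, Subtype.ext ha, rfl⟩
    rw [Nat.card_congr (equivMapOfInjective _ _ N.subtype_injective).toEquiv, e, hc.card_eq hB hA]
  have hidx : ∀ x : N, (x : G) ∉ center G →
      (centralizer ({x} : Set N)).index = Nat.card N / Nat.card A := by
    intro x hx
    rw [← (centralizer ({x} : Set N)).index_mul_card, hcard x hx,
      Nat.mul_div_cancel _ Nat.card_pos]
  have hn : 1 < Nat.card N / Nat.card A := by
    have h1 := (centralizer ({(⟨x₀, hc.le hx₀R⟩ : N)} : Set N)).index_mul_card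
    rw [hidx _ hx₀, hcard _ hx₀] at h1
    by_contra h2
    have h3 := Nat.mul_le_mul_right (Nat.card A) (not_lt.1 h2)
    have := hAN hA
    omega
  obtain ⟨p, hp, a, -, hP⟩ := two_sizes hn (fun x : N => by
    by_cases hx : (x : G) ∈ center G
    · exact Or.inl (index_one_iff.2 (Subgroup.mem_center_iff.2 fun y => Subtype.ext
        (Subgroup.mem_center_iff.1 hx y)))
    · exact Or.inr (hidx x hx)) ⟨⟨x₀, hc.le hx₀R⟩, hidx _ hx₀⟩
  obtain ⟨P⟩ : Nonempty (Sylow p N) := inferInstance
  obtain ⟨hPn, ⟨K, -, hKP, hK, hcom⟩, -⟩ := hP P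
  have hKc : K ≤ center N := by
    intro k hk
    refine Subgroup.mem_center_iff.2 fun y => ?_
    have htop : (⊤ : Subgroup N) ≤ centralizer ({k} : Set N) := by
      rw [← hKP.sup_eq_top]
      refine sup_le (fun b hb => mem_centralizer_singleton_iff.2 ?_)
        (fun b hb => mem_centralizer_singleton_iff.2 (hcom k hk b hb).symm)
      exact congrArg Subtype.val (hK.is_comm.comm (⟨b, hb⟩ : K) ⟨k, hk⟩)
    exact mem_centralizer_singleton_iff.1 (htop (mem_top y))
  haveI : Group.IsNilpotent (P : Subgroup N) := P.isPGroup'.isNilpotent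
  haveI : Group.IsNilpotent (N ⧸ center N) := by
    refine Group.nilpotent_of_surjective ((QuotientGroup.mk' (center N)).comp (P : Subgroup N).subtype) ?_
    intro b
    obtain ⟨y, rfl⟩ := QuotientGroup.mk'_surjective (center N) b
    haveI := hPn
    have hy : y ∈ ((K ⊔ (P : Subgroup N) : Subgroup N) : Set N) := by
      rw [hKP.sup_eq_top]; exact mem_top y
    rw [Subgroup.mul_normal] at hy
    obtain ⟨k, hk, q, hq, rfl⟩ := Set.mem_mul.1 hy
    refine ⟨⟨q, hq⟩, ?_⟩
    show QuotientGroup.mk' (center N) q = QuotientGroup.mk' (center N) (k * q)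
    rw [map_mul, show QuotientGroup.mk' (center N) k = 1 from (QuotientGroup.eq_one_iff _).2 (hKc hk),
      one_mul]
  exact Subgroup.isNilpotent_of_ker_le_center (QuotientGroup.mk' (center N))
    (QuotientGroup.ker_mk' _).le

/-- A mixed subgroup is properly normalised in `N`. -/
theorem card_inf_normalizer {A : Subgroup G} (hA : Mix N r A) :
    ∃ e, 0 < e ∧ Nat.card ↥(N ⊓ normalizer (A : Set G)) = e * r * Nat.card A := by
  obtain ⟨u, huN, huA, huK, i, hi⟩ := hc.exists_normalizing hA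
  set X := N ⊓ normalizer (A : Set G)
  have hle : A ≤ X := le_inf hA.le le_normalizer
  haveI hn : (A.subgroupOf X).Normal := ⟨fun a ha g => by
    rw [mem_subgroupOf] at ha ⊢
    exact (mem_normalizer_iff.1 g.2.2 (a : G)).1 ha⟩
  let π := QuotientGroup.mk' (A.subgroupOf X)
  let u' : X := ⟨u, mem_inf.2 ⟨huN, huK⟩⟩
  have hd : r ∣ Nat.card (X ⧸ A.subgroupOf X) := by
    have hu' : orderOf (π u') ∣ r ^ i := by
      have h := orderOf_map_dvd π u'
      rwa [← Subgroup.orderOf_coe u', show orderOf (u' : G) = r ^ i from hi] at h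
    obtain ⟨l, -, hl⟩ := (Nat.dvd_prime_pow hr.out).1 hu'
    refine dvd_trans ?_ (orderOf_dvd_natCard (π u'))
    rw [hl]
    refine dvd_pow_self r fun h0 => huA ?_
    rw [h0, pow_zero, orderOf_eq_one_iff] at hl
    exact mem_subgroupOf.1 ((QuotientGroup.eq_one_iff u').1 hl)
  obtain ⟨e, he⟩ := hd
  refine ⟨e, Nat.pos_of_ne_zero fun h => ?_, ?_⟩
  · rw [h, mul_zero] at he; exact Nat.card_pos.ne' he
  · rw [← Nat.card_congr (subgroupOfEquivOfLe hle).toEquiv, mul_comm e, ← he, ← index_eq_card,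
      index_mul_card]

/-- There are no unmixed elements. -/
theorem mem_mix [N.Normal] {A : Subgroup G} (hA : Mix N r A) {y : G} (hyN : y ∈ N)
    (hy : y ∉ center G) : ∃ B, Mix N r B ∧ y ∈ B := by
  classical
  by_contra hcon
  push Not at hcon
  haveI := Fintype.ofFinite G
  have hno : ∀ {v : G}, v ∈ N → (∀ B, Mix N r B → v ∉ B) →
      ∀ w ∈ N, w ∉ center G → (orderOf w).Coprime r → ¬ Commute w v := fun {v} hvN hv w hwN hwc hwo hwv =>
    hv _ (hc.mix_of_coprime hwN hwc hwo) (mem_inf.2 ⟨hvN, mem_centralizer_singleton_iff.2 hwv.symm.eq⟩)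
  obtain ⟨k, hkA, hkc, -⟩ := hA.exists_coprime
  have hsup : ∀ q : ℕ, q.Prime → q ≠ r →
      (Nat.card ↥(N ⊓ center G)).factorization q < (Nat.card A).factorization q →
      qIndex N (normalizer (A : Set G)) = r + 1 ∧
        q ^ ((Nat.card A).factorization q - (Nat.card ↥(N ⊓ center G)).factorization q) = r + 1 := by
    intro q hq hqr hlt
    haveI := Fact.mk hq
    have eA := hc.equation_fact (hA.le hkA) hkc q
    rw [← hc.mix_eq hA hkA hkc, hc.shift hA hkA hkc hqr hlt] at eA
    have eY := hc.equation_fact hyN hy q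
    rw [hc.unmixed_fact (hno hyN hcon) hyN hqr] at eY
    have hI := le_qIndex (N := N) (X := normalizer (A : Set G)) hq
      (d := (Nat.card A).factorization q - (Nat.card ↥(N ⊓ center G)).factorization q) (by omega)
    have h1 := succ_le_of_modEq hq (by omega) (hc.succ_le_of_supported hA hqr hlt)
    have h2 := (hc.orbit_bound hA).1
    exact ⟨by omega, by omega⟩
  obtain ⟨q₀, hq₀, hq₀r, hlt₀⟩ : ∃ q, q.Prime ∧ q ≠ r ∧
      (Nat.card ↥(N ⊓ center G)).factorization q < (Nat.card A).factorization q := by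
    obtain ⟨k', hk'A, hk'c, hk'o⟩ := hA.exists_coprime
    obtain ⟨w, hw, hwc, q, j, hq, hj⟩ := exists_primary hk'c
    haveI := Fact.mk hq
    have hj0 : j ≠ 0 := fun h0 => hwc (by
      rw [h0, pow_zero, orderOf_eq_one_iff] at hj; rw [hj]; exact one_mem _)
    refine ⟨q, hq, ?_, ?_⟩
    · rintro rfl
      exact hr.out.not_dvd_one (hk'o ▸ Nat.dvd_gcd
        ((dvd_pow_self q hj0).trans (hj ▸ orderOf_dvd_of_mem_zpowers hw)) dvd_rfl)
    · obtain ⟨V, hVA, hV, hVc⟩ := exists_qPart A (fun a ha b hb => hc.mix_commute hA ha hb) q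
      obtain ⟨W, hWle, hW, hWc⟩ := exists_qPart (N ⊓ center G) (fun a ha b _ => hc.center_commute ha) q
      have hWV : W < V := lt_of_le_of_ne
        (fun a ha => (hV a).2 ⟨hA.center_le ((hW a).1 ha).1, ((hW a).1 ha).2⟩)
        (fun e => hwc ((hW w).1 (e ▸ (hV w).2 ⟨(zpowers_le.2 hk'A) hw, j, hj⟩)).1.2)
      have := mul_card_le_of_lt (IsPGroup.of_card hVc) le_rfl hWV
      rw [hVc, hWc, ← pow_succ'] at this
      exact (Nat.pow_le_pow_iff_right hq.one_lt).1 this
  obtain ⟨hI, hd₀⟩ := hsup q₀ hq₀ hq₀r hlt₀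
  obtain ⟨hallc, hvr, halt⟩ := (hc.orbit_bound hA).2 hI
  -- an unmixed element comes from the line of `t`
  have hprim : ∀ v ∈ N, v ∉ center G → (∀ B, Mix N r B → v ∉ B) →
      ∃ g ∈ N, ∃ x ∈ (R : Subgroup G), x ∉ center G ∧ (∀ B, Mix N r B → x ∉ B) ∧
        g⁻¹ * v * g ∈ centralizer ({x} : Set G) := by
    intro v hvN hvc hv
    obtain ⟨w, hw, hwc, q, j, hq, hj⟩ := exists_primary hvc
    have hwN : w ∈ N := (zpowers_le.2 hvN) hw
    obtain ⟨i, rfl⟩ := mem_zpowers_iff.1 hw
    have hwv : Commute (v ^ i) v := (Commute.refl v).zpow_left i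
    by_cases hqr : q = r
    · subst hqr
      obtain ⟨g, hg, hgw⟩ := exists_conj_mem hc.le hwN hj
      have hxc : g⁻¹ * v ^ i * g ∉ center G := fun h =>
        hwc ((conj_mem_center_iff (g := g⁻¹) (x := v ^ i)).1 (by rwa [inv_inv]))
      refine ⟨g, hg, _, hgw, hxc, fun B hB hxB => ?_, mem_centralizer_singleton_iff.2 ?_⟩
      · have hwB : v ^ i ∈ B.map (MulAut.conj g).toMonoidHom :=
          ⟨_, hxB, by show g * (g⁻¹ * v ^ i * g) * g⁻¹ = v ^ i; group⟩
        refine hv _ (hB.conj hc.normal g) ?_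
        rw [hc.mix_eq (hB.conj hc.normal g) hwB hwc]
        exact mem_inf.2 ⟨hvN, mem_centralizer_singleton_iff.2 hwv.symm.eq⟩
      · calc g⁻¹ * v * g * (g⁻¹ * v ^ i * g) = g⁻¹ * (v * v ^ i) * g := by group
          _ = g⁻¹ * (v ^ i * v) * g := by rw [hwv.eq]
          _ = _ := by group
    · exact absurd hwv (hno hvN hv _ hwN hwc
        (by rw [hj]; exact ((Nat.coprime_primes hq hr.out).2 hqr).pow_left j))
  rcases halt with hmixR | ⟨t, htR, htc, htcen, htr, hR3, hcov⟩
  · obtain ⟨g, -, x, hxR, hxc, hxu, -⟩ := hprim y hyN hy hcon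
    obtain ⟨B, hB, hxB⟩ := hmixR x hxR hxc
    exact hxu B hB hxB
  set D := N ⊓ centralizer ({t} : Set G) with hDdef
  have htN : t ∈ N := hc.le htR
  have hline : ∀ x ∈ line R t, x ∉ center G →
      centralizer ({x} : Set G) = centralizer ({t} : Set G) := by
    intro x hx hxc
    obtain ⟨j, -, z, hz, rfl⟩ := mem_line R htR htr hx
    refine (centralizer_eq' hc.sizes htN htc (mul_mem (pow_mem htN j) (hc.le hz.1)) hxc ?_).symm
    intro a ha
    refine mem_centralizer_singleton_iff.2 ?_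
    exact (((show Commute a t from mem_centralizer_singleton_iff.1 ha).pow_right j).mul_right
      (Subgroup.mem_center_iff.1 hz.2 a)).eq
  have hUD : ∀ v ∈ N, v ∉ center G → (∀ B, Mix N r B → v ∉ B) → ∃ g ∈ N, g⁻¹ * v * g ∈ D := by
    intro v hvN hvc hv
    obtain ⟨g, hg, x, hxR, hxc, hxu, hgv⟩ := hprim v hvN hvc hv
    rcases hcov x hxR hxc with hxl | ⟨B, hB, hxB⟩
    · refine ⟨g, hg, mem_inf.2 ⟨mul_mem (mul_mem (inv_mem hg) hvN) hg, ?_⟩⟩
      rwa [← hline x hxl hxc]
    · exact absurd hxB (hxu B hB)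
  have htu : ∀ B, Mix N r B → t ∉ B := by
    intro B hB htB
    obtain ⟨g, hg, hgy⟩ := hUD y hyN hy hcon
    rw [hDdef, ← hc.mix_eq hB htB htc] at hgy
    exact hcon _ (hB.conj hc.normal g) ⟨_, hgy, by show g * (g⁻¹ * y * g) * g⁻¹ = y; group⟩
  -- the orders
  have hZA : ∀ q : ℕ, (Nat.card A).factorization q = (Nat.card ↥(N ⊓ center G)).factorization q +
      (r * (r + 1)).factorization q := by
    intro q
    rw [Nat.factorization_mul hr.out.ne_zero (by omega : r + 1 ≠ 0), Finsupp.add_apply, hr.out.factorization]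
    conv_rhs => rw [← hd₀, hq₀.factorization_pow]
    by_cases hqr : q = r
    · subst hqr
      rw [Finsupp.single_eq_same, Finsupp.single_eq_of_ne (Ne.symm hq₀r), hvr, add_zero]
    rw [Finsupp.single_eq_of_ne hqr]
    by_cases hqq : q = q₀
    · subst hqq; rw [Finsupp.single_eq_same]; omega
    rw [Finsupp.single_eq_of_ne hqq]
    by_cases hq : q.Prime
    · have hge := hc.center_fact_le hA q
      by_contra hne
      obtain ⟨-, h⟩ := hsup q hq hqr (by omega)
      rw [← hd₀] at h
      haveI := Fact.mk hq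
      have h' := congrArg (fun n => n.factorization q) h
      simp only [hq.factorization_pow, hq₀.factorization_pow, Finsupp.single_eq_same,
        Finsupp.single_eq_of_ne hqq] at h'
      omega
    · rw [Nat.factorization_eq_zero_of_not_prime _ hq, Nat.factorization_eq_zero_of_not_prime _ hq]
      rfl
  have hAcard : Nat.card A = r * (r + 1) * Nat.card ↥(N ⊓ center G) := by
    refine Nat.eq_of_factorization_eq Nat.card_pos.ne'
      (Nat.mul_ne_zero (Nat.mul_ne_zero hr.out.ne_zero (by omega : r + 1 ≠ 0)) Nat.card_pos.ne') fun q => ?_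
    rw [hZA q, Nat.factorization_mul (Nat.mul_ne_zero hr.out.ne_zero (by omega : r + 1 ≠ 0))
      Nat.card_pos.ne', Finsupp.add_apply, add_comm]
  have hDcard : Nat.card D = r * Nat.card ↥(N ⊓ center G) := by
    refine Nat.eq_of_factorization_eq Nat.card_pos.ne'
      (Nat.mul_ne_zero hr.out.ne_zero Nat.card_pos.ne') fun q => ?_
    rw [Nat.factorization_mul hr.out.ne_zero Nat.card_pos.ne', Finsupp.add_apply, hr.out.factorization]
    by_cases hqr : q = r
    · subst hqr
      rw [Finsupp.single_eq_same, hDdef, hc.rpart_eq htN htc (hA.le hkA) hkc,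
        ← hc.mix_eq hA hkA hkc, hvr, add_comm]
    rw [Finsupp.single_eq_of_ne hqr, zero_add]
    by_cases hq : q.Prime
    · haveI := Fact.mk hq
      exact hc.unmixed_fact (hno htN htu) htN hqr
    · rw [Nat.factorization_eq_zero_of_not_prime _ hq, Nat.factorization_eq_zero_of_not_prime _ hq]
  -- the normalizer of `D`
  set X := N ⊓ normalizer (D : Set G) with hXdef
  have hRX : (R : Subgroup G) ≤ X := by
    intro u hu
    refine mem_inf.2 ⟨hc.le hu, ?_⟩
    have hconj : ∀ v ∈ (R : Subgroup G), ∀ a ∈ D, v * a * v⁻¹ ∈ D := by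
      intro v hv a ha
      refine mem_inf.2 ⟨hc.normal.conj_mem _ ha.1 v, ?_⟩
      have hat : Commute a t := mem_centralizer_singleton_iff.1 ha.2
      have hcz := htcen v⁻¹ (inv_mem hv)
      rw [inv_inv] at hcz
      have hav : Commute a (v⁻¹ * t * v) := by
        rw [show v⁻¹ * t * v = (t * v⁻¹ * t⁻¹ * v)⁻¹ * t by group]
        exact Commute.mul_right (Subgroup.mem_center_iff.1 (inv_mem hcz) a) hat
      refine mem_centralizer_singleton_iff.2 ?_
      calc v * a * v⁻¹ * t = v * (a * (v⁻¹ * t * v)) * v⁻¹ := by group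
        _ = v * (v⁻¹ * t * v * a) * v⁻¹ := by rw [hav.eq]
        _ = t * (v * a * v⁻¹) := by group
    refine mem_normalizer_iff.2 fun a => ⟨hconj u hu a, fun h => ?_⟩
    have h' := hconj u⁻¹ (inv_mem hu) _ h
    rwa [inv_inv, show u⁻¹ * (u * a * u⁻¹) * u = a by group] at h'
  have hZX : N ⊓ center G ≤ X := fun z hz => mem_inf.2 ⟨hz.1, mem_normalizer_iff.2 fun a => by
    rw [← Subgroup.mem_center_iff.1 hz.2 a, mul_inv_cancel_right]⟩
  have hX3 : r ^ 3 * Nat.card ↥(N ⊓ center G) ≤ Nat.card X := by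
    refine Nat.le_of_dvd Nat.card_pos ((Nat.factorization_le_iff_dvd
      (Nat.mul_ne_zero (pow_ne_zero _ hr.out.ne_zero) Nat.card_pos.ne') Nat.card_pos.ne').1 fun q => ?_)
    rw [Nat.factorization_mul (pow_ne_zero _ hr.out.ne_zero) Nat.card_pos.ne', Finsupp.add_apply,
      hr.out.factorization_pow]
    by_cases hqr : q = r
    · subst hqr
      rw [Finsupp.single_eq_same]
      refine (hr.out.pow_dvd_iff_le_factorization Nat.card_pos.ne').1 (dvd_trans ?_ (card_dvd_of_le hRX))
      rw [pow_add, ← hc.card_Zr]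
      obtain ⟨a, ha⟩ := IsPGroup.iff_card.1 R.2
      rw [hc.card_Zr, ← pow_add] at hR3 ⊢
      rw [ha] at hR3 ⊢
      exact Nat.pow_dvd_pow _ ((Nat.pow_le_pow_iff_right hr.out.one_lt).1 hR3)
    · rw [Finsupp.single_eq_of_ne hqr, zero_add]
      exact (Nat.factorization_le_iff_dvd Nat.card_pos.ne' Nat.card_pos.ne').2 (card_dvd_of_le hZX) q
  -- the count
  obtain ⟨S, hS, hScard⟩ := hc.mixed_card hA hallc
  obtain ⟨e, he, heK⟩ := hc.card_inf_normalizer hA
  set T : Finset G :=
    (Finset.univ.filter fun a => a ∈ N) \ (Finset.univ.filter fun a => a ∈ N ⊓ center G)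
  have hST : S ⊆ T := fun a ha => by
    obtain ⟨hac, B, hB, haB⟩ := (hS a).1 ha
    simp only [T, Finset.mem_sdiff, Finset.mem_filter, Finset.mem_univ, true_and]
    exact ⟨hB.le haB, fun h => hac h.2⟩
  have hTcard : T.card = Nat.card N - Nat.card ↥(N ⊓ center G) := by
    rw [Finset.card_sdiff_of_subset (fun a ha => by
      simp only [Finset.mem_filter, Finset.mem_univ, true_and] at ha ⊢; exact ha.1),
      card_filter_mem, card_filter_mem]
  have hU := cover_card N X D (N ⊓ center G) inf_le_left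
    (fun h hh d hd => (mem_normalizer_iff.1 hh.2 d).1 hd)
    (fun z hz => mem_inf.2 ⟨hz.1,
      mem_centralizer_singleton_iff.2 (Subgroup.mem_center_iff.1 hz.2 t).symm⟩)
    (fun z hz g _ => by rw [Subgroup.mem_center_iff.1 hz.2 g, mul_inv_cancel_right]) (T \ S)
    (fun v hv => by
      simp only [T, Finset.mem_sdiff, Finset.mem_filter, Finset.mem_univ, true_and] at hv
      obtain ⟨⟨hvN, hvZ⟩, hvS⟩ := hv
      have hvc : v ∉ center G := fun h => hvZ (mem_inf.2 ⟨hvN, h⟩)
      exact ⟨hvZ, hUD v hvN hvc fun B hB hvB => hvS ((hS v).2 ⟨hvc, B, hB, hvB⟩)⟩)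
  rw [Finset.card_sdiff_of_subset hST, hTcard, hDcard] at hU
  rw [heK, hI, hAcard] at hScard
  refine arith_final hr.out.two_le (Nat.card_pos (α := ↥(N ⊓ center G))) he ?_ hScard hU hX3
    (Nat.le_of_dvd Nat.card_pos (card_dvd_of_le inf_le_left))
  have h1 := Finset.card_le_card hST
  rw [hTcard] at h1
  have h2 : Nat.card ↥(N ⊓ center G) ≤ Nat.card N :=
    Nat.le_of_dvd Nat.card_pos (card_dvd_of_le inf_le_left)
  omega

end Ctx

theorem isNilpotent (hR : ¬ (R : Subgroup G) ≤ center G) [N.Normal] (hle : (R : Subgroup G) ≤ N)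
    (h : ∀ x ∈ N, (centralizer ({x} : Set G)).index = 1 ∨ (centralizer ({x} : Set G)).index = m) :
    Group.IsNilpotent N := by
  have hs : ∀ x ∈ N, x ∉ center G → (centralizer ({x} : Set G)).index = m := fun x hx hxc =>
    (h x hx).resolve_left fun h1 => hxc (index_one_iff.1 h1)
  by_cases hz : ∀ z ∈ (R : Subgroup G), (∀ u ∈ (R : Subgroup G), Commute u z) → z ∈ center G
  swap
  · push Not at hz
    obtain ⟨z, hzR, hzc, hz⟩ := hz
    have hab := comm_of_central inferInstance hle hs hzR hz hzc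
    exact Subgroup.isNilpotent_of_ker_le_center (1 : N →* (⊥ : Subgroup G))
      fun x _ => Subgroup.mem_center_iff.2 fun y => Subtype.ext (hab y y.2 x x.2).eq
  have hc : Ctx N R m := ⟨inferInstance, hle, hR, hs, hz⟩
  by_cases hmix : ∃ A, Mix N r A
  · obtain ⟨A, hA⟩ := hmix
    exact hc.isNilpotent_of_mixed fun x hx hxc => hc.mem_mix hA hx hxc
  · exact isNilpotent_of_coprime_central (r := r) fun k hk hko => by
      by_contra hkc
      exact hmix ⟨_, hc.mix_of_coprime hk hkc hko⟩

end CfsgLib.ClassSizes.TwoSizesNormal
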